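import Cfsg.Agent.H485.Frame
import Cfsg.Agent.LieRecognition.CoxForm

/-!
# Coprime groups of automorphisms: non-abelian 2-subgroups from the Weyl group

* `two_group_of_pair` : two involutions whose product has 2-power order generate a 2-group;
* `NonAb W` : `W` contains two involutions generating a non-abelian 2-group;
* `not_nonAb` : if every element of `W` has a representative fixed by `A` and the 2-subgroups of `fx A` are abelian, then
  `¬ NonAb W`;
* `nonAb_of_four`, `nonAb_of_path` : Coxeter groups with a bond `4` or two adjacent bonds `3`.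
-/

set_option autoImplicit false
set_option linter.unusedSectionVars false

namespace Cfsg.Agent.H485.Weyl

open CoxeterSystem Cfsg.Agent.ChevalleyStructure.CoxeterGeom Cfsg.Agent.Tits.Roots Cfsg.Agent.Tits.Core
  Cfsg.Agent.Nodes.Reps Cfsg.Agent.Nodes.BNOf Cfsg.Agent.Nodes.Bruhat Cfsg.Agent.Nodes.OppDec
  Cfsg.Agent.KFacts.RgdAut Cfsg.Agent.KFacts.RgdDiag Cfsg.Agent.H485.Frame

theorem inv_of_sq {G : Type*} [Group G] {t : G} (ht : t * t = 1) : t⁻¹ = t := inv_eq_of_mul_eq_one_left ht

/-- Two involutions whose product has 2-power order generate a 2-group. -/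
theorem two_group_of_pair {G : Type*} [Group G] {t s : G} (ht : t * t = 1) (hss : s * s = 1) {k : ℕ}
    (hord : (t * s) ^ 2 ^ k = 1) : IsPGroup 2 (Subgroup.closure {t, s} : Subgroup G) := by
  have htinv : t⁻¹ = t := inv_of_sq ht
  have hsinv : s⁻¹ = s := inv_of_sq hss
  obtain ⟨a, ha⟩ : ∃ a : G, a = t * s := ⟨_, rfl⟩
  have hinv : t * a * t⁻¹ = a⁻¹ := by
    rw [ha, mul_inv_rev, hsinv, htinv, ← mul_assoc, ht, one_mul]
  have hA : IsPGroup 2 (Subgroup.zpowers a) := by
    rintro ⟨x, hx⟩
    obtain ⟨n, rfl⟩ := Subgroup.mem_zpowers_iff.1 hx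
    refine ⟨k, Subtype.ext ?_⟩
    change (a ^ n) ^ 2 ^ k = 1
    rw [← zpow_natCast, ← zpow_mul, mul_comm, zpow_mul, zpow_natCast, ha, hord, one_zpow]
  have hT : IsPGroup 2 (Subgroup.zpowers t) := by
    rintro ⟨x, hx⟩
    obtain ⟨n, rfl⟩ := Subgroup.mem_zpowers_iff.1 hx
    refine ⟨1, Subtype.ext ?_⟩
    change (t ^ n) ^ 2 ^ 1 = 1
    rw [pow_one, ← zpow_natCast, ← zpow_mul, mul_comm, zpow_mul, zpow_natCast, pow_two, ht, one_zpow]
  have hnorm : Subgroup.zpowers t ≤
      Subgroup.normalizer ((Subgroup.zpowers a : Subgroup G) : Set G) := by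
    rw [Subgroup.zpowers_le, Subgroup.mem_normalizer_iff]
    have hfor : ∀ h ∈ Subgroup.zpowers a, t * h * t⁻¹ ∈ Subgroup.zpowers a := by
      rintro h ⟨n, rfl⟩
      simp only
      rw [← conj_zpow, hinv]
      exact ⟨-n, by simp⟩
    intro h
    refine ⟨hfor h, fun hh => ?_⟩
    have := hfor _ hh
    rw [htinv] at this
    have h2 : t * (t * h * t) * t = h := by
      calc t * (t * h * t) * t = (t * t) * h * (t * t) := by group
        _ = h := by rw [ht]; group
    rwa [h2] at this
  refine (IsPGroup.to_sup_of_normal_left' hA hT hnorm).to_le ?_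
  rw [Subgroup.closure_le]
  intro w hw
  rcases hw with rfl | hw
  · exact Subgroup.mem_sup_right (Subgroup.mem_zpowers _)
  · rw [Set.mem_singleton_iff] at hw
    subst hw
    have : w = t⁻¹ * a := by rw [ha]; group
    rw [this]
    exact mul_mem (inv_mem (Subgroup.mem_sup_right (Subgroup.mem_zpowers _)))
      (Subgroup.mem_sup_left (Subgroup.mem_zpowers _))

/-- The group contains two involutions which generate a non-abelian 2-group (of order at most 16). -/
def NonAb (W : Type*) [Group W] : Prop :=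
  ∃ x y : W, x * x = 1 ∧ y * y = 1 ∧ (x * y) ^ 2 ^ 3 = 1 ∧ x * y ≠ y * x

/-- All 2-subgroups of `C` are abelian. -/
def AbTwo {Y : Type*} [Group Y] (C : Subgroup Y) : Prop :=
  ∀ Q : Subgroup Y, Q ≤ C → IsPGroup 2 Q → ∀ a ∈ Q, ∀ b ∈ Q, a * b = b * a

/-- A homomorphism from a group with abelian 2-subgroups onto a group. -/
theorem not_nonAb_of_surj {Y W : Type*} [Group Y] [Finite Y] [Group W] {C : Subgroup Y} (hC : AbTwo C)
    (N : Subgroup Y) (hN : N ≤ C) (f : ↥N →* W) (hf : Function.Surjective f) : ¬ NonAb W := by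
  rintro ⟨x, y, hx, hy, hxy, hne⟩
  apply hne
  have hD := two_group_of_pair hx hy hxy
  set D : Subgroup W := Subgroup.closure {x, y} with hDdef
  have : Fact (Nat.Prime 2) := ⟨Nat.prime_two⟩
  -- the preimage of `D`
  let P : Subgroup ↥N := D.comap f
  let g : ↥P →* ↥D := f.subgroupComap D
  have hg : Function.Surjective g := by
    rintro ⟨w, hw⟩
    obtain ⟨a, ha⟩ := hf w
    exact ⟨⟨a, by rw [Subgroup.mem_comap, ha]; exact hw⟩, Subtype.ext ha⟩
  obtain ⟨Q⟩ : Nonempty (Sylow 2 ↥P) := inferInstance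
  have : Finite ↥D := Finite.of_surjective g hg
  have htop : (Q : Subgroup ↥P).map g = ⊤ := by
    have h1 : ((Q.mapSurjective hg : Sylow 2 ↥D) : Subgroup ↥D) = ⊤ := by
      have h2 := (Q.mapSurjective hg).3 (Q := ⊤) ?_ le_top
      · exact h2.symm
      · exact hD.to_subgroup ⊤
    exact h1
  have key : ∀ w ∈ D, ∃ q : ↥P, q ∈ (Q : Subgroup ↥P) ∧ f q = w := by
    intro w hw
    have h1 : (⟨w, hw⟩ : ↥D) ∈ (Q : Subgroup ↥P).map g := by rw [htop]; exact Subgroup.mem_top _
    obtain ⟨q, hq, hqw⟩ := h1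
    exact ⟨q, hq, congrArg Subtype.val hqw⟩
  obtain ⟨a, ha, hax⟩ := key x (Subgroup.subset_closure (by simp))
  obtain ⟨b, hb, hby⟩ := key y (Subgroup.subset_closure (by simp))
  have h1 := hC (((Q : Subgroup ↥P).map P.subtype).map N.subtype) ((Subgroup.map_subtype_le _).trans hN)
    ((Q.isPGroup'.map _).map _) ((a : ↥N) : Y) ⟨_, ⟨_, ha, rfl⟩, rfl⟩ ((b : ↥N) : Y) ⟨_, ⟨_, hb, rfl⟩, rfl⟩
  have h2 : (a : ↥N) * b = b * a := Subtype.ext h1
  rw [← hax, ← hby, ← map_mul, h2, map_mul]

section

variable {I W Y : Type*} [Fintype I] [DecidableEq I] [Group W] [Group Y] {M : CoxeterMatrix I}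
  {cs : CoxeterSystem M W} {C : I → I → ℤ} {h : IsCartan M C} {p : ℕ} {T : Subgroup Y} {n : I → Y}
  {X : (I → ℤ) → Subgroup Y}

/-- a representative represents only one element -/
theorem rp_inj [Finite W] (R : RGD cs h p T n X) {v w : W} {g : Y} (h1 : Rp cs R.nsys v g) (h2 : Rp cs R.nsys w g) :
    v = w := by
  have h3 := h1.inv.mul h2
  rw [inv_mul_cancel] at h3
  have h4 := R.eq_one_of_mem_B h3 (one_mem _)
  rwa [inv_mul_eq_one] at h4

/-- the homomorphism of `N` onto the Weyl group -/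
noncomputable def toW [Finite W] (R : RGD cs h p T n X) : ↥(NN cs R.nsys) →* W where
  toFun g := (mem_NN.1 g.2).choose
  map_one' := rp_inj R (mem_NN.1 (1 : ↥(NN cs R.nsys)).2).choose_spec rp_one
  map_mul' a b := rp_inj R (mem_NN.1 (a * b).2).choose_spec
    ((mem_NN.1 a.2).choose_spec.mul (mem_NN.1 b.2).choose_spec)

theorem toW_eq [Finite W] (R : RGD cs h p T n X) {g : ↥(NN cs R.nsys)} {w : W} (hg : Rp cs R.nsys w (g : Y)) :
    toW R g = w := rp_inj R (mem_NN.1 g.2).choose_spec hg

/-- **If the 2-subgroups of the fixed points are abelian, so are the small ones of the Weyl group.** -/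
theorem not_nonAb [Finite W] [Finite Y] (R : RGD cs h p T n X) {A : Subgroup (MulAut Y)} (hC : AbTwo (fx A))
    (hrp : ∀ w : W, ∃ g ∈ fx A, Rp cs R.nsys w g) : ¬ NonAb W := by
  refine not_nonAb_of_surj hC (fx A ⊓ NN cs R.nsys) inf_le_left
    ((toW R).comp (Subgroup.inclusion (inf_le_right : fx A ⊓ NN cs R.nsys ≤ NN cs R.nsys))) ?_
  intro w
  obtain ⟨g, hg, hw⟩ := hrp w
  exact ⟨⟨g, hg, mem_NN.2 ⟨w, hw⟩⟩, toW_eq R hw⟩

end

/-! ### Coxeter groups -/

section Cox

variable {I W : Type*} [Fintype I] [DecidableEq I] [Group W] [Finite W] {M : CoxeterMatrix I}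
  (cs : CoxeterSystem M W)

include cs

theorem nonAb_of_pow {i j : I} {k : ℕ} (hk : 2 ≤ k) (hk3 : k ≤ 3) (h4 : M i j = 2 ^ k) : NonAb W := by
  refine ⟨cs.simple i, cs.simple j, cs.simple_mul_simple_self i, cs.simple_mul_simple_self j, ?_, ?_⟩
  · have h1 := cs.simple_mul_simple_pow i j
    rw [h4] at h1
    obtain ⟨m, hm⟩ : ∃ m, 3 = k + m := ⟨3 - k, by omega⟩
    rw [hm, pow_add, pow_mul, h1, one_pow]
  · intro hcomm
    have h1 := LieRecognition.CoxForm.orderOf_eq cs i j
    have h2 : (cs.simple i * cs.simple j) ^ 2 = 1 := by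
      rw [pow_two]
      nth_rewrite 2 [hcomm]
      rw [mul_assoc, ← mul_assoc (cs.simple j), cs.simple_mul_simple_self, one_mul, cs.simple_mul_simple_self]
    have h3 := orderOf_dvd_of_pow_eq_one h2
    rw [h1, h4] at h3
    have h4 := Nat.le_of_dvd (by norm_num) h3
    have h5 : 2 ^ 2 ≤ 2 ^ k := Nat.pow_le_pow_right (by norm_num) hk
    omega

theorem nonAb_of_path {i j k : I} (hij : M i j = 3) (hjk : M j k = 3) (hik : M i k = 2) : NonAb W := by
  obtain ⟨a, ha⟩ : ∃ a, a = cs.simple i := ⟨_, rfl⟩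
  obtain ⟨b, hb⟩ : ∃ b, b = cs.simple j := ⟨_, rfl⟩
  obtain ⟨c, hc⟩ : ∃ c, c = cs.simple k := ⟨_, rfl⟩
  have haa : a * a = 1 := by rw [ha]; exact cs.simple_mul_simple_self i
  have hbb : b * b = 1 := by rw [hb]; exact cs.simple_mul_simple_self j
  have hcc : c * c = 1 := by rw [hc]; exact cs.simple_mul_simple_self k
  have hac : a * c = c * a := by
    have h1 := cs.simple_mul_simple_pow i k
    rw [hik, ← ha, ← hc, pow_two] at h1
    have h2 := inv_eq_of_mul_eq_one_left h1
    rw [mul_inv_rev, inv_of_sq haa, inv_of_sq hcc] at h2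
    exact h2.symm
  have hab : a * b * a = b * a * b := by
    have h1 := cs.simple_mul_simple_pow i j
    rw [hij, ← ha, ← hb] at h1
    have h3 : a * b * a * (b * a * b) = 1 := by
      rw [← h1]; simp only [pow_succ, pow_zero, one_mul]; group
    have h4 : (b * a * b)⁻¹ = b * a * b := by
      rw [mul_inv_rev, mul_inv_rev, inv_of_sq haa, inv_of_sq hbb]; group
    calc a * b * a = a * b * a * (b * a * b) * (b * a * b)⁻¹ := by group
      _ = b * a * b := by rw [h3, h4, one_mul]
  have hbc : b * c * b = c * b * c := by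
    have h1 := cs.simple_mul_simple_pow j k
    rw [hjk, ← hb, ← hc] at h1
    have h3 : b * c * b * (c * b * c) = 1 := by
      rw [← h1]; simp only [pow_succ, pow_zero, one_mul]; group
    have h4 : (c * b * c)⁻¹ = c * b * c := by
      rw [mul_inv_rev, mul_inv_rev, inv_of_sq hbb, inv_of_sq hcc]; group
    calc b * c * b = b * c * b * (c * b * c) * (c * b * c)⁻¹ := by group
      _ = c * b * c := by rw [h3, h4, one_mul]
  have hne : a ≠ c := by
    intro h1
    have h2 := LieRecognition.CoxForm.orderOf_eq cs i k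
    rw [← ha, ← hc, h1, hcc, orderOf_one, hik] at h2
    omega
  obtain ⟨u, hu⟩ : ∃ u, u = b * a * c * b := ⟨_, rfl⟩
  have huu : u * u = 1 := by
    calc u * u = b * a * c * (b * b) * a * c * b := by rw [hu]; group
      _ = b * a * (c * a) * c * b := by rw [hbb]; group
      _ = b * (a * a) * (c * c) * b := by rw [← hac]; group
      _ = 1 := by rw [haa, hcc, mul_one, mul_one, hbb]
  have huau : u * a * u = c := by
    calc u * a * u = b * a * c * (b * a * b) * a * c * b := by rw [hu]; group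
      _ = b * a * c * (a * b * a) * a * c * b := by rw [hab]
      _ = b * a * (c * a) * b * (a * a) * c * b := by group
      _ = b * a * (a * c) * b * c * b := by rw [haa, hac]; group
      _ = b * (a * a) * (c * b * c) * b := by group
      _ = b * (b * c * b) * b := by rw [haa, mul_one, ← hbc]
      _ = (b * b) * c * (b * b) := by group
      _ = c := by rw [hbb]; group
  refine ⟨a, u, haa, huu, ?_, ?_⟩
  · have h2 : (a * u) ^ 2 = a * c := by
      rw [pow_two]
      calc a * u * (a * u) = a * (u * a * u) := by group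
        _ = a * c := by rw [huau]
    have h4 : (a * u) ^ 4 = 1 := by
      rw [show 4 = 2 * 2 from rfl, pow_mul, h2, pow_two]
      calc a * c * (a * c) = a * (c * a) * c := by group
        _ = a * a * (c * c) := by rw [← hac]; group
        _ = 1 := by rw [haa, hcc, one_mul]
    rw [show 2 ^ 3 = 4 * 2 from rfl, pow_mul, h4, one_pow]
  · intro h1
    apply hne
    have h2 : u * a * u = a := by rw [← h1, mul_assoc, huu, mul_one]
    rw [← h2, huau]

end Cox

end Cfsg.Agent.H485.Weyl
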