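import Cfsg.Agent.H485.Nodes
import Cfsg.Agent.H485.Weyl

/-!
# The types of the groups of Lie type, all characteristics

* `typ_PO_odd` : the root group datum of the odd dimensional orthogonal groups, type `B_m`;
* `Bad M` : the Coxeter group of `M` has small non-abelian 2-subgroups (a bond `4` or two adjacent bonds `3`);
* `list_of_lie` : a group of Lie type has a root group datum with a rigid bad diagram, or it is `PSL₂`, `PSL₃`, `PSU₃`,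
  `G₂`, `³D₄`, a Suzuki group or a Ree group.
-/

set_option autoImplicit false
set_option linter.unusedSectionVars false

namespace Cfsg.Agent.H485.TypList

open Cfsg
open CoxeterSystem Cfsg.Agent.ChevalleyStructure.CoxeterGeom Cfsg.Agent.Tits.Roots Cfsg.Agent.Tits.Core
  Cfsg.Agent.Nodes.Comb Cfsg.Agent.Nodes.Reps Cfsg.Agent.Nodes.BNOf Cfsg.Agent.FixBN
  Cfsg.Agent.Nodes.RGDLib Cfsg.Agent.Nodes.RGDChev Cfsg.Agent.LieRecognition.BNCox
  Cfsg.Agent.TitsThree Cfsg.Agent.Omega.ML.Ex.Typ Cfsg.Agent.H485.Nodes Cfsg.Agent.KFacts.RgdCharP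

section Orthogonal

open QuadraticMap
open Cfsg.Agent.LieClassical Cfsg.Agent.LieClassical.OrthCore Cfsg.Agent.LieClassical.OrthTrans
open Cfsg.Agent.LieClassical.OrthSimple Cfsg.Agent.LieClassical.OrthFinite
open Cfsg.Agent.LieClassical.OrthForms
open Cfsg.Agent.TitsThree.KSideO Cfsg.Agent.TitsThree.StdData
open Cfsg.Agent.Nodes Cfsg.Agent.Nodes.WittAll Cfsg.Agent.Nodes.WittU Cfsg.Agent.Nodes.WittInst
  Cfsg.Agent.TitsThree.Siegel Cfsg.Agent.TitsThree.SiegelGen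
  Cfsg.Agent.TitsThree.WittFrame Cfsg.Agent.TitsThree.WBridge Cfsg.Agent.TitsThree.WittWeyl
  Cfsg.Agent.TitsThree.FrameCN

variable {F : Type*} [Field F] {m : ℕ}

/-- **`PΩ_{2m+1}(F)`, `F` of odd characteristic.** -/
theorem typ_PO_odd [Finite F] (h2 : (2 : F) ≠ 0) (hm : 2 ≤ m) {p : ℕ} [Fact p.Prime] [CharP F p] :
    HasRGDT p (CoxeterMatrix.B m) (Cfsg.POmega F (Cfsg.quadFormOdd m F)) := by
  rw [← coe_oddForm]
  have hG : Good (oddForm m F) := by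
    apply good_of_finite (nondeg_oddForm m F h2)
    rw [Module.finrank_fintype_fun_eq_card, Fintype.card_sum, Fintype.card_sum, Fintype.card_fin,
      Fintype.card_unit]
    omega
  have hp : ((embOdd m F).ngt ⟨1, -1 ^ 2, rfl⟩).c ≠ 0 := by
    change (1 : F)⁻¹ * (-1 ^ 2) ≠ 0
    simp
  exact typ_C (model (wodd m F) hG ⟨_, hp⟩) (AmbT.of_amb (amb_O_of_two _ h2) p) hp (by omega)

end Orthogonal

/-- The Coxeter group has small non-abelian 2-subgroups. -/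
def Bad {I : Type*} (M : CoxeterMatrix I) : Prop :=
  (∃ i j, M i j = 4) ∨ ∃ i j k, M i j = 3 ∧ M j k = 3 ∧ M i k = 2

theorem cA_apply {n : ℕ} (i j : Fin n) : cA n i j = LieRecognition.CoxClass.mA (i : ℕ) (j : ℕ) := rfl

theorem bad_cA {n : ℕ} (hn : 3 ≤ n) : Bad (cA n) := by
  refine Or.inr ⟨⟨0, by omega⟩, ⟨1, by omega⟩, ⟨2, by omega⟩, ?_, ?_, ?_⟩ <;>
  · rw [cA_apply]
    unfold LieRecognition.CoxClass.mA
    simp

theorem bad_B {m : ℕ} (hm : 2 ≤ m) : Bad (CoxeterMatrix.B m) := by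
  refine Or.inl ⟨⟨m - 1, by omega⟩, ⟨m - 2, by omega⟩, ?_⟩
  rw [B_apply (by intro h; have := congrArg Fin.val h; simp only at this; omega)]
  simp

theorem bad_D (n : ℕ) (hn : 1 ≤ n) : Bad (Cfsg.Agent.Nodes.TypeD.M n) := by
  refine Or.inr ⟨⟨n, by omega⟩, ⟨n - 1, by omega⟩, ⟨n + 1, by omega⟩, ?_, ?_, ?_⟩
  · have h1 : Cfsg.Agent.Nodes.TypeD.Adj (n := n) ⟨n - 1, by omega⟩ ⟨n, by omega⟩ :=
      Or.inl ⟨show n < n + 1 by omega, show n - 1 + 1 = n by omega⟩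
    rw [Cfsg.Agent.Nodes.TypeD.M_apply, if_neg (by rw [Fin.mk.injEq]; omega), if_pos (Or.inr h1)]
  · have h1 : Cfsg.Agent.Nodes.TypeD.Adj (n := n) ⟨n - 1, by omega⟩ ⟨n + 1, by omega⟩ :=
      Or.inr ⟨rfl, show n - 1 + 2 = n + 1 by omega⟩
    rw [Cfsg.Agent.Nodes.TypeD.M_apply, if_neg (by rw [Fin.mk.injEq]; omega), if_pos (Or.inl h1)]
  · rw [Cfsg.Agent.Nodes.TypeD.M_apply, if_neg (by rw [Fin.mk.injEq]; omega), if_neg]
    rintro ((⟨h, -⟩ | ⟨-, h⟩) | (⟨-, h⟩ | ⟨h, -⟩))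
    · exact absurd (show n + 1 < n + 1 from h) (by omega)
    · exact absurd (show n + 2 = n + 1 from h) (by omega)
    · exact absurd (show n + 1 + 1 = n from h) (by omega)
    · exact absurd (show n = n + 1 from h) (by omega)

theorem bad_F4 : Bad CoxeterMatrix.F₄ := Or.inl ⟨1, 2, by decide⟩

theorem bad_E6 : Bad CoxeterMatrix.E₆ := Or.inr ⟨0, 2, 3, by decide, by decide, by decide⟩
theorem bad_E7 : Bad CoxeterMatrix.E₇ := Or.inr ⟨0, 2, 3, by decide, by decide, by decide⟩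
theorem bad_E8 : Bad CoxeterMatrix.E₈ := Or.inr ⟨0, 2, 3, by decide, by decide, by decide⟩

/-- A root group datum of characteristic `p` with a rigid bad diagram. -/
def BadRGD (p : ℕ) (G : Type*) [Group G] : Prop :=
  ∃ (l : ℕ) (M : CoxeterMatrix (Fin l)), (Conn M → Rigid M) ∧ Bad M ∧ HasRGDT p M G

theorem list_of_lie {p : ℕ} {G : Type*} [Group G] (hG : IsLieTypeChar p G) :
    BadRGD p G ∨
    (∃ (F : Type) (_ : Field F) (_ : Fintype F) (_ : CharP F p), 4 ≤ Fintype.card F ∧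
      Nonempty (G ≃* Matrix.ProjectiveSpecialLinearGroup (Fin 2) F)) ∨
    (∃ (F : Type) (_ : Field F) (_ : Fintype F) (_ : CharP F p),
      Nonempty (G ≃* Matrix.ProjectiveSpecialLinearGroup (Fin 3) F)) ∨
    (∃ (F : Type) (_ : Field F) (_ : Fintype F) (_ : CharP F p) (q : ℕ), Fintype.card F = q ^ 2 ∧ q ≠ 2 ∧
      Nonempty (G ≃* PSU 3 F q)) ∨
    (∃ (F : Type) (_ : Field F) (_ : Fintype F) (_ : CharP F p), Nonempty (G ≃* Lie.chevG2.group F)) ∨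
    (∃ (K : Type) (_ : Field K) (_ : Fintype K) (_ : CharP K p) (q : ℕ), IsPrimePow q ∧ Fintype.card K = q ^ 3 ∧
      Nonempty (G ≃* Lie.twistedD4 K q)) ∨
    (p = 2 ∧ Lie.IsoSuzuki G) ∨ (p = 2 ∧ Lie.Iso2F4 G) ∨ (p = 3 ∧ Lie.IsoRee G) := by
  rcases hG with h | h | h | h | h | h | h | h | h | h | h
  · obtain ⟨F, i1, i2, i3, n, hn, h4F, ⟨e⟩⟩ := h
    have : Fact p.Prime := Nodes.RGDClass.fact_prime (F := F)
    rcases (show n = 2 ∨ n = 3 ∨ 4 ≤ n by omega) with rfl | rfl | h4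
    · exact Or.inr (Or.inl ⟨F, i1, i2, i3, h4F rfl, ⟨e⟩⟩)
    · exact Or.inr (Or.inr (Or.inl ⟨F, i1, i2, i3, ⟨e⟩⟩))
    · obtain ⟨n, rfl⟩ : ∃ k, n = k + 1 := ⟨n - 1, by omega⟩
      exact Or.inl ⟨n, _, rigid_cA, bad_cA (by omega), (typ_PSL n).of_equiv e.symm⟩
  · obtain ⟨F, _, _, _, m, hm, -, ⟨e⟩⟩ := h
    have : Fact p.Prime := Nodes.RGDClass.fact_prime (F := F)
    exact Or.inl ⟨m, _, rigid_B, bad_B hm, (typ_PSp (by omega)).of_equiv e.symm⟩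
  · obtain ⟨F, i1, i2, i3, n, q, hF, hn, hq, ⟨e⟩⟩ := h
    have : Fact p.Prime := Nodes.RGDClass.fact_prime (F := F)
    rcases (show n = 3 ∨ 4 ≤ n by omega) with rfl | h4
    · exact Or.inr (Or.inr (Or.inr (Or.inl ⟨F, i1, i2, i3, q, hF, fun h => hq ⟨rfl, h⟩, ⟨e⟩⟩)))
    · obtain ⟨m, hm, h⟩ := typ_PSU (p := p) hF hn
      exact Or.inl ⟨m, _, rigid_B, bad_B (by omega), h.of_equiv e.symm⟩
  · obtain ⟨F, _, _, _, m, hm, hodd, ⟨e⟩⟩ := h
    have : Fact p.Prime := Nodes.RGDClass.fact_prime (F := F)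
    have h2 : (2 : F) ≠ 0 := by
      intro h0
      have h3 : CharP F 2 := CharTwo.of_one_ne_zero_of_two_eq_zero one_ne_zero h0
      obtain ⟨k, -, hk⟩ := FiniteField.card F 2
      rw [hk] at hodd
      exact absurd hodd (by
        rw [Nat.not_odd_iff_even]
        exact (even_two).pow_of_ne_zero k.ne_zero)
    exact Or.inl ⟨m, _, rigid_B, bad_B (by omega), (typ_PO_odd h2 (by omega)).of_equiv e.symm⟩
  · obtain ⟨F, _, _, _, m, hm, ⟨e⟩⟩ := h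
    have : Fact p.Prime := Nodes.RGDClass.fact_prime (F := F)
    obtain ⟨n, rfl⟩ : ∃ n, m = n + 3 := ⟨m - 3, by omega⟩
    exact Or.inl ⟨_, _, rigid_D, bad_D _ (by omega), (typ_PO_plus n).of_equiv e.symm⟩
  · obtain ⟨F, _, _, _, m, a, b, hm, hab, ⟨e⟩⟩ := h
    have : Fact p.Prime := Nodes.RGDClass.fact_prime (F := F)
    exact Or.inl ⟨m - 1, _, rigid_B, bad_B (by omega), (typ_PO_minus hab (by omega)).of_equiv e.symm⟩
  · obtain ⟨F, i1, i2, i3, ⟨-, ⟨e⟩⟩ | ⟨⟨e⟩⟩ | ⟨⟨e⟩⟩ | ⟨⟨e⟩⟩ | ⟨⟨e⟩⟩⟩ := h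
    · exact Or.inr (Or.inr (Or.inr (Or.inr (Or.inl ⟨F, i1, i2, i3, ⟨e⟩⟩))))
    · exact Or.inl ⟨_, _, fun _ => rigid_of_card_le _ (by simp), bad_F4,
        (typ_group (by simp [IsType, typeList]) F p).of_equiv e.symm⟩
    · exact Or.inl ⟨_, _, rigid_E6, bad_E6, (typ_group (by simp [IsType, typeList]) F p).of_equiv e.symm⟩
    · exact Or.inl ⟨_, _, rigid_E7, bad_E7, (typ_group (by simp [IsType, typeList]) F p).of_equiv e.symm⟩
    · exact Or.inl ⟨_, _, rigid_E8, bad_E8, (typ_group (by simp [IsType, typeList]) F p).of_equiv e.symm⟩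
  · obtain ⟨K, i1, i2, i3, q, hq, ⟨hK, ⟨e⟩⟩ | ⟨hK, ⟨e⟩⟩⟩ := h
    · exact Or.inl ⟨_, _, fun _ => rigid_of_card_le _ (by simp), bad_F4, (typ_twE6 hq hK p).of_equiv e.symm⟩
    · exact Or.inr (Or.inr (Or.inr (Or.inr (Or.inr (Or.inl ⟨K, i1, i2, i3, q, hq, hK, ⟨e⟩⟩)))))
  · exact Or.inr (Or.inr (Or.inr (Or.inr (Or.inr (Or.inr (Or.inl h))))))
  · exact Or.inr (Or.inr (Or.inr (Or.inr (Or.inr (Or.inr (Or.inr (Or.inl h)))))))
  · exact Or.inr (Or.inr (Or.inr (Or.inr (Or.inr (Or.inr (Or.inr (Or.inr h)))))))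

end Cfsg.Agent.H485.TypList
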