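import Cfsg.Agent.KFacts.RgdRigid
import Cfsg.Agent.Solvable.Glauberman
import Cfsg.Agent.H548.InvSub

/-!
# Coprime groups of automorphisms of a group with a root group datum: the frame

* `fx A` : the fixed points of a group `A` of automorphisms;
* `exists_frame_group` : a solvable group `A` of automorphisms of order prime to `|Y|` fixes a frame `(U, U⁻)`, up to
  conjugation by an inner automorphism;
* `exists_fixed_rp` : if `A` fixes the frame and the nodes, then every element of the Weyl group has a representative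
  fixed by `A`.
-/

set_option autoImplicit false
set_option linter.unusedSectionVars false

open scoped Pointwise

namespace Cfsg.Agent.H485.Frame

open CoxeterSystem Cfsg.Agent.ChevalleyStructure.CoxeterGeom Cfsg.Agent.Tits.Roots Cfsg.Agent.Tits.Core
  Cfsg.Agent.Tits.Exchange Cfsg.Agent.Nodes.Reps Cfsg.Agent.Nodes.BNOf Cfsg.Agent.Nodes.StabComb
  Cfsg.Agent.Nodes.Bruhat Cfsg.Agent.Nodes.OppDec Cfsg.Agent.Nodes.LeviDec Cfsg.Agent.Nodes.NormalForm
  Cfsg.Agent.KFacts.RgdOpp Cfsg.Agent.KFacts.RgdAut Cfsg.Agent.KFacts.RgdDiag Cfsg.Agent.KFacts.RgdRigid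
  Cfsg.Agent.Solvable.Glauberman

/-- The fixed points of a group of automorphisms. -/
def fx {Y : Type*} [Group Y] (A : Subgroup (MulAut Y)) : Subgroup Y where
  carrier := {y | ∀ a ∈ A, a y = y}
  one_mem' := fun a _ => map_one a
  mul_mem' := fun {x y} hx hy a ha => by rw [map_mul, hx a ha, hy a ha]
  inv_mem' := fun {x} hx a ha => by rw [map_inv, hx a ha]

theorem mem_fx {Y : Type*} [Group Y] {A : Subgroup (MulAut Y)} {y : Y} : y ∈ fx A ↔ ∀ a ∈ A, a y = y := Iff.rfl

/-- Conjugating the group of automorphisms by an inner automorphism. -/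
theorem mem_fx_conj {Y : Type*} [Group Y] {A : Subgroup (MulAut Y)} {g y : Y} :
    y ∈ fx (MulAut.conj (MulAut.conj g : MulAut Y) • A) ↔ g⁻¹ * y * g ∈ fx A := by
  constructor
  · intro h a ha
    have h1 := h (MulAut.conj g * a * (MulAut.conj g)⁻¹) (Subgroup.smul_mem_pointwise_smul a _ A ha)
    have h2 : (MulAut.conj g * a * (MulAut.conj g)⁻¹) y = g * a (g⁻¹ * y * g) * g⁻¹ := by
      rw [MulAut.mul_apply, MulAut.mul_apply, ← map_inv, MulAut.conj_apply, MulAut.conj_apply, inv_inv]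
    rw [h2] at h1
    have h3 : a (g⁻¹ * y * g) = g⁻¹ * (g * a (g⁻¹ * y * g) * g⁻¹) * g := by group
    rw [h3, h1]
  · intro h b hb
    rw [Subgroup.mem_smul_pointwise_iff_exists] at hb
    obtain ⟨a, ha, rfl⟩ := hb
    have h2 : (MulAut.conj (MulAut.conj g : MulAut Y) • a) y = g * a (g⁻¹ * y * g) * g⁻¹ := by
      change (MulAut.conj g * a * (MulAut.conj g)⁻¹) y = _
      rw [MulAut.mul_apply, MulAut.mul_apply, ← map_inv, MulAut.conj_apply, MulAut.conj_apply, inv_inv]
    rw [h2, h a ha]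
    group

/-- The fixed points of conjugate groups of automorphisms are isomorphic. -/
theorem fx_conj {Y : Type*} [Group Y] (A : Subgroup (MulAut Y)) (g : Y) :
    fx (MulAut.conj (MulAut.conj g : MulAut Y) • A) = (fx A).map (MulAut.conj g).toMonoidHom := by
  ext y
  rw [mem_fx_conj]
  constructor
  · intro h
    exact ⟨_, h, by change g * (g⁻¹ * y * g) * g⁻¹ = y; group⟩
  · rintro ⟨x, hx, rfl⟩
    change g⁻¹ * (g * x * g⁻¹) * g ∈ _
    have : g⁻¹ * (g * x * g⁻¹) * g = x := by group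
    rwa [this]

theorem smul_eq_iff_fix {Y : Type*} [Group Y] {a : MulAut Y} {H : Subgroup Y} : a • H = H ↔ Fix a H := by
  rw [fix_iff]; rfl

theorem card_conj_smul {Y : Type*} [Group Y] (A : Subgroup (MulAut Y)) (g : MulAut Y) :
    Nat.card (MulAut.conj g • A : Subgroup (MulAut Y)) = Nat.card A :=
  Nat.card_congr (Subgroup.equivSMul (MulAut.conj g) A).symm.toEquiv

theorem solvable_conj_smul {Y : Type*} [Group Y] {A : Subgroup (MulAut Y)} (hs : Group.IsSolvable A) (g : MulAut Y) :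
    Group.IsSolvable (MulAut.conj g • A : Subgroup (MulAut Y)) :=
  Group.isSolvable_of_surjective (f := (Subgroup.equivSMul (MulAut.conj g) A).toMonoidHom)
    (Subgroup.equivSMul (MulAut.conj g) A).surjective

/-- An invariant Sylow subgroup. -/
theorem exists_fix_sylow {Y : Type*} [Group Y] [Finite Y] (A : Subgroup (MulAut Y))
    (hcop : (Nat.card A).Coprime (Nat.card Y)) (hs : Group.IsSolvable A) (p : ℕ) [Fact p.Prime] :
    ∃ P : Sylow p Y, ∀ a ∈ A, Fix a (P : Subgroup Y) := by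
  have : Finite (MulAut Y) := inferInstance
  obtain ⟨P, hP⟩ := H548.InvSub.exists_inv_sylow (A := ↥A) (G := Y) hcop (Or.inl hs) p
  refine ⟨P, fun a ha x => ?_⟩
  exact hP.mem_iff ⟨a, ha⟩ x

/-- Glauberman's lemma for the action on a set of subgroups, first part. -/
theorem exists_fix_conj {Y : Type*} [Group Y] [Finite Y] (A : Subgroup (MulAut Y)) (U V : Subgroup Y)
    (hcop : (Nat.card A).Coprime (Nat.card Y)) (hs : Group.IsSolvable A) (hU : ∀ a ∈ A, Fix a U)
    (hV : ∀ a ∈ A, ∃ u ∈ U, Fix (MulAut.conj u * a) V) :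
    ∃ u ∈ U, ∀ a ∈ A, Fix a (cj u V) := by
  have : Finite (MulAut Y) := inferInstance
  have hconj : ∀ (a : MulAut Y) (u : Y), a * MulAut.conj u * a⁻¹ = MulAut.conj (a u) := by
    intro a u
    ext x
    rw [MulAut.mul_apply, MulAut.mul_apply, MulAut.conj_apply, map_mul, map_mul, MulAut.apply_inv_self, map_inv,
      MulAut.conj_apply]
  have hN : A ≤ Subgroup.normalizer ((U.map (MulAut.conj : Y →* MulAut Y) : Subgroup (MulAut Y)) : Set (MulAut Y)) := by
    intro a ha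
    rw [Subgroup.mem_normalizer_iff]
    intro b
    constructor
    · rintro ⟨u, hu, rfl⟩
      exact ⟨a u, (hU a ha u).2 hu, (hconj a u).symm⟩
    · rintro ⟨u, hu, hb⟩
      refine ⟨a⁻¹ u, ((hU a ha).inv u).2 hu, ?_⟩
      rw [← hconj, hb]
      group
  obtain ⟨k, ⟨u, hu, rfl⟩, h⟩ := exists_smul_fixed A (U.map (MulAut.conj : Y →* MulAut Y)) hN
    (hcop.coprime_dvd_right ((Subgroup.card_map_dvd _ _).trans (Subgroup.card_subgroup_dvd_card U))) (Or.inl hs)
    (X := Subgroup Y) V (by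
      intro a ha
      obtain ⟨u, hu, h1⟩ := hV a ha
      refine ⟨MulAut.conj u⁻¹, ⟨u⁻¹, inv_mem hu, rfl⟩, ?_⟩
      rw [← smul_eq_iff_fix, mul_smul] at h1
      rw [map_inv, eq_inv_smul_iff]
      exact h1)
  refine ⟨u, hu, fun a ha => ?_⟩
  rw [← smul_eq_iff_fix]
  exact h a ha

/-- Glauberman's lemma for the action on pairs of subgroups, second part. -/
theorem exists_fixed_conj {Y : Type*} [Group Y] [Finite Y] (hZ : Subgroup.center Y = ⊥) (A : Subgroup (MulAut Y))
    (hcop : (Nat.card A).Coprime (Nat.card Y)) (hs : Group.IsSolvable A) (U V : Subgroup Y)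
    (hU : ∀ a ∈ A, Fix a U) (hV : ∀ a ∈ A, Fix a V) {g : Y} (hU' : ∀ a ∈ A, Fix a (cj g U))
    (hV' : ∀ a ∈ A, Fix a (cj g V)) : ∃ c ∈ fx A, cj c U = cj g U ∧ cj c V = cj g V := by
  have : Finite (MulAut Y) := inferInstance
  have hconj : ∀ (a : MulAut Y) (u : Y), a * MulAut.conj u * a⁻¹ = MulAut.conj (a u) := by
    intro a u
    ext x
    rw [MulAut.mul_apply, MulAut.mul_apply, MulAut.conj_apply, map_mul, map_mul, MulAut.apply_inv_self, map_inv,
      MulAut.conj_apply]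
  have hN : A ≤ Subgroup.normalizer (((MulAut.conj : Y →* MulAut Y).range : Subgroup (MulAut Y)) :
      Set (MulAut Y)) := by
    intro a _
    rw [Subgroup.mem_normalizer_iff]
    intro b
    constructor
    · rintro ⟨u, rfl⟩
      exact ⟨a u, (hconj a u).symm⟩
    · rintro ⟨u, hb⟩
      refine ⟨a⁻¹ u, ?_⟩
      rw [← hconj, hb]
      group
  obtain ⟨k, ⟨c, rfl⟩, hk, h⟩ := exists_centralizer_smul A ((MulAut.conj : Y →* MulAut Y).range) hN
    (hcop.coprime_dvd_right (Subgroup.card_range_dvd _)) (Or.inl hs)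
    (X := Subgroup Y × Subgroup Y) (U, V) (cj g U, cj g V)
    (fun a ha => Prod.ext (smul_eq_iff_fix.2 (hU a ha)) (smul_eq_iff_fix.2 (hV a ha)))
    (fun a ha => Prod.ext (smul_eq_iff_fix.2 (hU' a ha)) (smul_eq_iff_fix.2 (hV' a ha)))
    (k := MulAut.conj g) ⟨g, rfl⟩ rfl
  refine ⟨c, ?_, congrArg Prod.fst h, congrArg Prod.snd h⟩
  intro a ha
  have h1 := Subgroup.mem_centralizer_iff.1 hk a ha
  have h2 : MulAut.conj (a c) = MulAut.conj c := by
    rw [← hconj, h1, mul_inv_cancel_right]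
  have h3 : (a c)⁻¹ * c ∈ Subgroup.center Y := by
    rw [Subgroup.mem_center_iff]
    intro x
    have h4 : a c * x * (a c)⁻¹ = c * x * c⁻¹ := by
      have := congrArg (fun f : MulAut Y => f x) h2
      exact this
    have h5 : x * ((a c)⁻¹ * c) = (a c)⁻¹ * (a c * x * (a c)⁻¹) * c := by group
    rw [h5, h4]
    group
  rw [hZ, Subgroup.mem_bot] at h3
  exact (inv_mul_eq_one.1 h3)

section

variable {I W Y : Type*} [Fintype I] [DecidableEq I] [Group W] [Group Y] {M : CoxeterMatrix I}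
  {cs : CoxeterSystem M W} {C : I → I → ℤ} {h : IsCartan M C} {p : ℕ} {T : Subgroup Y} {n : I → Y}
  {X : (I → ℤ) → Subgroup Y}

/-- **The frame of a coprime group of automorphisms.** -/
theorem exists_frame_group [Finite W] [Finite Y] [Fact p.Prime] (R : RGD cs h p T n X) (hG : GG cs h T X = ⊤)
    (A : Subgroup (MulAut Y)) (hcop : (Nat.card A).Coprime (Nat.card Y)) (hs : Group.IsSolvable A) :
    ∃ g : Y, ∀ a ∈ (MulAut.conj (MulAut.conj g : MulAut Y) • A : Subgroup (MulAut Y)),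
      Fix a (RGD.Sup X (RGD.Pos cs h)) ∧ Fix a (UN cs h X) := by
  have : Finite (MulAut Y) := inferInstance
  obtain ⟨P, hP⟩ := exists_fix_sylow A hcop hs p
  -- `U` is a Sylow subgroup
  obtain ⟨Q, hQ⟩ := R.isPGroup_Upos.exists_le_sylow
  have hQU : (Q : Subgroup Y) = RGD.Sup X (RGD.Pos cs h) :=
    eq_U_of_isPGroup R Q.isPGroup' hQ (by rw [hG]; exact le_top)
  obtain ⟨g, hg⟩ := MulAction.exists_smul_eq Y P Q
  have hgU : (MulAut.conj g : MulAut Y) • (P : Subgroup Y) = RGD.Sup X (RGD.Pos cs h) := by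
    rw [← hQU, ← hg]; rfl
  set A₁ : Subgroup (MulAut Y) := MulAut.conj (MulAut.conj g : MulAut Y) • A with hA₁
  have hU : ∀ a ∈ A₁, Fix a (RGD.Sup X (RGD.Pos cs h)) := by
    intro b hb
    rw [hA₁, Subgroup.mem_smul_pointwise_iff_exists] at hb
    obtain ⟨a, ha, rfl⟩ := hb
    rw [← smul_eq_iff_fix]
    change (MulAut.conj g * a * (MulAut.conj g)⁻¹) • _ = _
    rw [mul_smul, mul_smul, inv_smul_eq_iff.2 hgU.symm, smul_eq_iff_fix.2 (hP a ha), hgU]
  have hc₁ : (Nat.card A₁).Coprime (Nat.card Y) := by rw [hA₁, card_conj_smul]; exact hcop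
  obtain ⟨u, hu, hfix⟩ := exists_fix_conj A₁ (RGD.Sup X (RGD.Pos cs h)) (UN cs h X) hc₁
    (solvable_conj_smul hs _) hU (fun a ha => by
      obtain ⟨u, hu, h1, h2, h3, h4, h5⟩ := exists_frame R hG (hU a ha)
      exact ⟨u, hu, h3⟩)
  refine ⟨u⁻¹ * g, fun b hb => ?_⟩
  rw [map_mul, map_mul, mul_smul, ← hA₁, Subgroup.mem_smul_pointwise_iff_exists] at hb
  obtain ⟨a, ha, rfl⟩ := hb
  rw [← smul_eq_iff_fix, ← smul_eq_iff_fix]
  have hcu : (MulAut.conj u⁻¹ : MulAut Y) • RGD.Sup X (RGD.Pos cs h) = RGD.Sup X (RGD.Pos cs h) :=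
    cj_eq_of_mem (inv_mem hu)
  constructor
  · change (MulAut.conj u⁻¹ * a * (MulAut.conj u⁻¹)⁻¹) • _ = _
    rw [mul_smul, mul_smul, inv_smul_eq_iff.2 hcu.symm, smul_eq_iff_fix.2 (hU a ha), hcu]
  · change (MulAut.conj u⁻¹ * a * (MulAut.conj u⁻¹)⁻¹) • _ = _
    have h1 : (MulAut.conj u : MulAut Y) • UN cs h X = cj u (UN cs h X) := rfl
    have h2 := smul_eq_iff_fix.2 (hfix a ha)
    rw [← h1] at h2
    rw [mul_smul, mul_smul, map_inv, inv_inv, h2, inv_smul_smul]

/-- **Fixed representatives of the Weyl group.** -/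
theorem exists_fixed_rp [Finite W] [Finite Y] (R : RGD cs h p T n X) (hG : GG cs h T X = ⊤)
    (hZ : Subgroup.center Y = ⊥) (A : Subgroup (MulAut Y)) (hcop : (Nat.card A).Coprime (Nat.card Y))
    (hs : Group.IsSolvable A) (hU : ∀ a ∈ A, Fix a (RGD.Sup X (RGD.Pos cs h))) (hUN : ∀ a ∈ A, Fix a (UN cs h X))
    (hD : ∀ a ∈ A, Diag T X a 1) (w : W) : ∃ g ∈ fx A, Rp cs R.nsys w g := by
  obtain ⟨k, hk⟩ := exists_rp cs R.nsys w
  have hmat : ∀ i j, M ((1 : Equiv.Perm I) i) ((1 : Equiv.Perm I) j) = M i j := fun _ _ => rfl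
  have hhat : hat cs (1 : Equiv.Perm I) hmat w = w := by
    have : hat cs (1 : Equiv.Perm I) hmat = MonoidHom.id W := by
      apply cs.ext_simple
      intro i
      rw [hat_simple]; rfl
    rw [this]; rfl
  have hT : ∀ a ∈ A, k⁻¹ * a k ∈ T := by
    intro a ha
    have h1 := (hD a ha).rp' (R := R) hmat hk
    rw [hhat] at h1
    exact hk.unique h1
  have hTU : ∀ t ∈ T, cj t (RGD.Sup X (RGD.Pos cs h)) = RGD.Sup X (RGD.Pos cs h) := fun t ht =>
    mem_normalizer_iff_cj.1 (R.T_le_normalizer_U ht)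
  have hTUN : ∀ t ∈ T, cj t (UN cs h X) = UN cs h X := by
    intro t ht
    have h1 := mem_normalizer_iff_cj.1 ((opp R).T_le_normalizer_U ht)
    rwa [U_opp] at h1
  have key : ∀ V : Subgroup Y, (∀ a ∈ A, Fix a V) → (∀ t ∈ T, cj t V = V) → ∀ a ∈ A, Fix a (cj k V) := by
    intro V hV hTV a ha
    rw [← smul_eq_iff_fix]
    have h1 : a • cj k V = cj (a k) V := by
      have h2 : a * MulAut.conj k = MulAut.conj (a k) * a := by
        ext x
        rw [MulAut.mul_apply, MulAut.mul_apply, MulAut.conj_apply, map_mul, map_mul, map_inv, MulAut.conj_apply]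
      change a • (MulAut.conj k : MulAut Y) • V = (MulAut.conj (a k) : MulAut Y) • V
      rw [← mul_smul, h2, mul_smul, smul_eq_iff_fix.2 (hV a ha)]
    rw [h1]
    have h3 : a k = k * (k⁻¹ * a k) := by group
    rw [h3, cj_mul, hTV _ (hT a ha)]
  obtain ⟨c, hc, hc1, hc2⟩ := exists_fixed_conj hZ A hcop hs _ _ hU hUN (key _ hU hTU) (key _ hUN hTUN)
  refine ⟨c, hc, ?_⟩
  have h1 : ∀ V : Subgroup Y, cj c V = cj k V → k⁻¹ * c ∈ Subgroup.normalizer (V : Set Y) := by
    intro V hV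
    rw [mem_normalizer_iff_cj, cj_mul, hV, cj_inv_cj]
  have h2 : k⁻¹ * c ∈ RGD.B cs h T X := by
    rw [← normalizer_U' R hG]; exact h1 _ hc1
  have h3 : k⁻¹ * c ∈ BN cs h T X := by
    have h4 := normalizer_U' (opp R) (by rw [GG_opp, hG])
    rw [U_opp, B_opp] at h4
    rw [← h4]; exact h1 _ hc2
  have h4 : k⁻¹ * c ∈ T := by
    rw [← B_inf_BN R]; exact ⟨h2, h3⟩
  have h5 : c = k * (k⁻¹ * c) := by group
  rw [h5]
  exact hk.mul_mem_right h4

end

end Cfsg.Agent.H485.Frame
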