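import Cfsg.Agent.H485.Frame
import Cfsg.Agent.KFacts.RgdLieCharP
import Cfsg.Agent.Mrg.Omega.ML.Ex.Typ.List

/-!
# Coprime groups of automorphisms fix the nodes of the diagram

* `Rigid M` : the symmetries of `M` of order prime to `6` are trivial;
* `diag_one` : an automorphism of order prime to `6` fixing the frame fixes the nodes of a rigid diagram;
* `rigid_of_card_le`, `rigid_cA`, `rigid_B`, `rigid_D`, `rigid_E6`, `rigid_E7`, `rigid_E8`.
-/

set_option autoImplicit false
set_option linter.unusedSectionVars false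

namespace Cfsg.Agent.H485.Nodes

open CoxeterSystem Cfsg.Agent.ChevalleyStructure.CoxeterGeom Cfsg.Agent.Tits.Roots Cfsg.Agent.Tits.Core
  Cfsg.Agent.Nodes.Reps Cfsg.Agent.Nodes.BNOf Cfsg.Agent.Nodes.Bruhat Cfsg.Agent.Nodes.OppDec
  Cfsg.Agent.KFacts.RgdAut Cfsg.Agent.KFacts.RgdDiag Cfsg.Agent.KFacts.RgdCharP Cfsg.Agent.H485.Frame

variable {I : Type*} [Fintype I] [DecidableEq I]

/-- The symmetries of the diagram of order prime to `6` are trivial. -/
def Rigid (M : CoxeterMatrix I) : Prop :=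
  ∀ σ : Equiv.Perm I, (∀ i j, M (σ i) (σ j) = M i j) → ∀ k : ℕ, Nat.Coprime k 6 → σ ^ k = 1 → σ = 1

/-- A permutation of order prime to `6` acts trivially on an invariant set with at most four elements. -/
theorem fix_of_card_le {σ : Equiv.Perm I} {k : ℕ} (hk : Nat.Coprime k 6) (hσ : σ ^ k = 1) {F : Finset I}
    (hF : F.card ≤ 4) (hinv : ∀ i ∈ F, σ i ∈ F) {i : I} (hi : i ∈ F) : σ i = i := by
  have hinv' : ∀ x, σ x ∈ F ↔ x ∈ F := by
    have h1 : F.map σ.toEmbedding = F := by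
      apply Finset.eq_of_subset_of_card_le
      · intro x hx
        rw [Finset.mem_map] at hx
        obtain ⟨y, hy, rfl⟩ := hx
        exact hinv y hy
      · rw [Finset.card_map]
    intro x
    constructor
    · intro hx
      rw [← h1, Finset.mem_map] at hx
      obtain ⟨y, hy, hyx⟩ := hx
      have : y = x := σ.injective hyx
      rwa [← this]
    · exact hinv x
  let τ : Equiv.Perm {x // x ∈ F} := σ.subtypePerm (fun x => hinv' x)
  have hτ : τ ^ k = 1 := by
    ext x
    rw [Equiv.Perm.subtypePerm_pow]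
    change (σ ^ k) x = x
    rw [hσ]; rfl
  have h1 : orderOf τ ∣ k := orderOf_dvd_of_pow_eq_one hτ
  have h2 : orderOf τ ∣ 24 := by
    have h3 : orderOf τ ∣ Fintype.card (Equiv.Perm {x // x ∈ F}) := orderOf_dvd_card
    rw [Fintype.card_perm, Fintype.card_coe] at h3
    exact h3.trans ((Nat.factorial_dvd_factorial hF).trans (by decide))
  have h3 : Nat.Coprime k 24 := by
    have h4 : Nat.Coprime k (6 * 6 * 6) := (hk.mul_right hk).mul_right hk
    exact h4.coprime_dvd_right (by norm_num)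
  have h4 : orderOf τ = 1 := Nat.eq_one_of_dvd_coprimes h3 h1 h2
  rw [orderOf_eq_one_iff] at h4
  have h5 := congrArg (fun f : Equiv.Perm {x // x ∈ F} => ((f ⟨i, hi⟩ : {x // x ∈ F}) : I)) h4
  exact h5

theorem rigid_of_card_le (M : CoxeterMatrix I) (h : Fintype.card I ≤ 4) : Rigid M := by
  intro σ _ k hk hσ
  ext i
  exact fix_of_card_le hk hσ (F := Finset.univ) (by rwa [Finset.card_univ]) (fun _ _ => Finset.mem_univ _)
    (Finset.mem_univ i)

/-- the neighbours of a node -/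
def nb (M : CoxeterMatrix I) (i : I) : Finset I := Finset.univ.filter fun j => j ≠ i ∧ M i j ≠ 2

theorem mem_nb {M : CoxeterMatrix I} {i j : I} : j ∈ nb M i ↔ j ≠ i ∧ M i j ≠ 2 := by
  unfold nb; rw [Finset.mem_filter]; simp

theorem map_nb {M : CoxeterMatrix I} {σ : Equiv.Perm I} (hσ : ∀ i j, M (σ i) (σ j) = M i j) {i j : I} :
    σ j ∈ nb M (σ i) ↔ j ∈ nb M i := by
  rw [mem_nb, mem_nb, hσ, Ne, σ.injective.eq_iff]

theorem card_nb {M : CoxeterMatrix I} {σ : Equiv.Perm I} (hσ : ∀ i j, M (σ i) (σ j) = M i j) (i : I) :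
    (nb M (σ i)).card = (nb M i).card := by
  have h1 : nb M (σ i) = (nb M i).map σ.toEmbedding := by
    ext x
    rw [Finset.mem_map]
    constructor
    · intro hx
      refine ⟨σ.symm x, ?_, σ.apply_symm_apply x⟩
      rw [← map_nb hσ, σ.apply_symm_apply]
      exact hx
    · rintro ⟨y, hy, rfl⟩
      exact (map_nb hσ).2 hy
  rw [h1, Finset.card_map]

/-- **The criterion**: connected, at most four neighbours, and between one and four nodes with at most `d`
neighbours. -/
theorem rigid_of_deg (M : CoxeterMatrix I) (hconn : Conn M) (hdeg : ∀ i, (nb M i).card ≤ 4) (d : ℕ)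
    (hne : ∃ i, (nb M i).card ≤ d) (hd : (Finset.univ.filter fun i => (nb M i).card ≤ d).card ≤ 4) : Rigid M := by
  intro σ hσ k hk hσk
  obtain ⟨i₀, hi₀⟩ := hne
  have h0 : σ i₀ = i₀ := fix_of_card_le hk hσk hd (fun i hi => by
    rw [Finset.mem_filter] at hi ⊢
    exact ⟨Finset.mem_univ _, by rw [card_nb hσ]; exact hi.2⟩) (by
    rw [Finset.mem_filter]; exact ⟨Finset.mem_univ _, hi₀⟩)
  by_contra hne
  have hJ : {i | σ i = i} ≠ Set.univ := by
    intro h1
    apply hne
    ext i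
    have : i ∈ {i | σ i = i} := by rw [h1]; exact Set.mem_univ _
    exact this
  obtain ⟨a, ha, b, hb, hab⟩ := hconn {i | σ i = i} ⟨i₀, h0⟩ hJ
  apply hb
  have ha' : σ a = a := ha
  refine fix_of_card_le hk hσk (hdeg a) (fun j hj => ?_) (i := b) ?_
  · have := (map_nb hσ).2 hj
    rwa [ha'] at this
  · rw [mem_nb]
    refine ⟨?_, hab⟩
    rintro rfl
    exact hb ha

/-! ### paths -/

/-- paths -/
theorem rigid_path {n : ℕ} (M : CoxeterMatrix (Fin n)) (hconn : Conn M)
    (hM : ∀ i j : Fin n, i ≠ j → (M i j ≠ 2 ↔ (i : ℕ) + 1 = j ∨ (j : ℕ) + 1 = i)) : Rigid M := by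
  rcases Nat.lt_or_ge 4 n with hn | hn
  swap
  · exact rigid_of_card_le M (by rwa [Fintype.card_fin])
  have hnb : ∀ i j : Fin n, j ∈ nb M i ↔ (i : ℕ) + 1 = j ∨ (j : ℕ) + 1 = i := by
    intro i j
    rw [mem_nb]
    constructor
    · rintro ⟨h1, h2⟩
      exact (hM i j (Ne.symm h1)).1 h2
    · intro h1
      have h2 : i ≠ j := by
        rintro rfl
        omega
      exact ⟨h2.symm, (hM i j h2).2 h1⟩
  have hle : ∀ i : Fin n, nb M i ⊆ ({⟨((i : ℕ) + 1) % n, Nat.mod_lt _ (by omega)⟩,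
      ⟨((i : ℕ) - 1) % n, Nat.mod_lt _ (by omega)⟩} : Finset (Fin n)) := by
    intro i j hj
    rw [Finset.mem_insert, Finset.mem_singleton]
    have h1 := j.2
    have h2 := i.2
    rcases (hnb i j).1 hj with h | h
    · left
      apply Fin.ext
      change (j : ℕ) = ((i : ℕ) + 1) % n
      rw [h, Nat.mod_eq_of_lt h1]
    · right
      apply Fin.ext
      change (j : ℕ) = ((i : ℕ) - 1) % n
      rw [← h, Nat.add_sub_cancel, Nat.mod_eq_of_lt h1]
  refine rigid_of_deg M hconn (fun i => ?_) 1 ⟨⟨0, by omega⟩, ?_⟩ ?_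
  · exact (Finset.card_le_card (hle i)).trans (Finset.card_le_two.trans (by norm_num))
  · rw [Finset.card_le_one_iff]
    intro a b ha hb
    apply Fin.ext
    rw [hnb] at ha hb
    simp only at ha hb
    omega
  · have h1 : (Finset.univ.filter fun i => (nb M i).card ≤ 1) ⊆
        ({⟨0, by omega⟩, ⟨n - 1, by omega⟩} : Finset (Fin n)) := by
      intro i hi
      rw [Finset.mem_filter] at hi
      by_contra hcon
      rw [Finset.mem_insert, Finset.mem_singleton, not_or] at hcon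
      have h2 : (i : ℕ) ≠ 0 := fun h => hcon.1 (Fin.ext h)
      have h3 : (i : ℕ) ≠ n - 1 := fun h => hcon.2 (Fin.ext h)
      have h4 := i.2
      have h5 : (⟨(i : ℕ) + 1, by omega⟩ : Fin n) = ⟨(i : ℕ) - 1, by omega⟩ :=
        Finset.card_le_one_iff.1 hi.2 ((hnb _ _).2 (Or.inl rfl)) ((hnb _ _).2 (Or.inr (by simp only; omega)))
      have h6 := congrArg Fin.val h5
      simp only at h6
      omega
    exact (Finset.card_le_card h1).trans (Finset.card_le_two.trans (by norm_num))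

theorem rigid_cA {n : ℕ} (hconn : Conn (LieRecognition.BNCox.cA n)) : Rigid (LieRecognition.BNCox.cA n) := by
  refine rigid_path _ hconn fun i j hij => ?_
  have h1 : (i : ℕ) ≠ j := fun h => hij (Fin.ext h)
  change LieRecognition.CoxClass.mA (i : ℕ) (j : ℕ) ≠ 2 ↔ _
  unfold LieRecognition.CoxClass.mA
  rw [if_neg h1]
  split_ifs with h2
  · simp [h2]
  · simp [h2]

theorem B_apply {n : ℕ} {i j : Fin n} (hij : i ≠ j) : CoxeterMatrix.B n i j =
    if (i : ℕ) = n - 1 ∧ (j : ℕ) = n - 2 ∨ (j : ℕ) = n - 1 ∧ (i : ℕ) = n - 2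
      then 4 else (if (j : ℕ) + 1 = i ∨ (i : ℕ) + 1 = j then 3 else 2) := by
  show (if i = j then 1 else _) = _
  rw [if_neg hij]

theorem rigid_B {n : ℕ} (hconn : Conn (CoxeterMatrix.B n)) : Rigid (CoxeterMatrix.B n) := by
  refine rigid_path _ hconn fun i j hij => ?_
  have h1 : (i : ℕ) ≠ j := fun h => hij (Fin.ext h)
  have h2 := i.2
  have h3 := j.2
  rw [B_apply hij]
  split_ifs with h4 h5
  · simp only [ne_eq, Nat.reduceEqDiff, not_false_eq_true, true_iff]; omega
  · simp only [ne_eq, Nat.reduceEqDiff, not_false_eq_true, true_iff]; omega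
  · simp only [ne_eq, not_true_eq_false, false_iff]; omega

/-! ### type `D` -/

theorem rigid_D {n : ℕ} (hconn : Conn (Cfsg.Agent.Nodes.TypeD.M n)) : Rigid (Cfsg.Agent.Nodes.TypeD.M n) := by
  rcases Nat.lt_or_ge 4 (n + 2) with hn | hn
  swap
  · exact rigid_of_card_le _ (by rwa [Fintype.card_fin])
  have hnb : ∀ i j : Fin (n + 2), j ∈ nb (Cfsg.Agent.Nodes.TypeD.M n) i ↔
      ((j : ℕ) < n + 1 ∧ (i : ℕ) + 1 = j ∨ (j : ℕ) = n + 1 ∧ (i : ℕ) + 2 = j) ∨
      ((i : ℕ) < n + 1 ∧ (j : ℕ) + 1 = i ∨ (i : ℕ) = n + 1 ∧ (j : ℕ) + 2 = i) := by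
    intro i j
    rw [mem_nb, Cfsg.Agent.Nodes.TypeD.M_apply]
    unfold Cfsg.Agent.Nodes.TypeD.Adj
    constructor
    · rintro ⟨h1, h2⟩
      rw [if_neg (Ne.symm h1)] at h2
      by_contra hcon
      rw [if_neg hcon] at h2
      exact h2 rfl
    · intro h1
      have h2 : j ≠ i := by
        rintro rfl
        omega
      refine ⟨h2, ?_⟩
      rw [if_neg h2.symm, if_pos h1]
      norm_num
  have hle : ∀ i : Fin (n + 2), nb (Cfsg.Agent.Nodes.TypeD.M n) i ⊆ ({⟨((i : ℕ) + 1) % (n + 2), Nat.mod_lt _ (by omega)⟩,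
      ⟨((i : ℕ) - 1) % (n + 2), Nat.mod_lt _ (by omega)⟩, ⟨n + 1, by omega⟩,
      ⟨((i : ℕ) - 2) % (n + 2), Nat.mod_lt _ (by omega)⟩} : Finset (Fin (n + 2))) := by
    intro i j hj
    simp only [Finset.mem_insert, Finset.mem_singleton]
    have h1 := j.2
    have h2 := i.2
    rcases (hnb i j).1 hj with (⟨h, h'⟩ | ⟨h, h'⟩) | (⟨h, h'⟩ | ⟨h, h'⟩)
    · left
      apply Fin.ext
      change (j : ℕ) = ((i : ℕ) + 1) % (n + 2)
      rw [h', Nat.mod_eq_of_lt h1]
    · right; right; left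
      apply Fin.ext
      exact h
    · right; left
      apply Fin.ext
      change (j : ℕ) = ((i : ℕ) - 1) % (n + 2)
      rw [← h', Nat.add_sub_cancel, Nat.mod_eq_of_lt h1]
    · right; right; right
      apply Fin.ext
      change (j : ℕ) = ((i : ℕ) - 2) % (n + 2)
      rw [← h', Nat.add_sub_cancel, Nat.mod_eq_of_lt h1]
  refine rigid_of_deg _ hconn (fun i => ?_) 1 ⟨⟨0, by omega⟩, ?_⟩ ?_
  · exact (Finset.card_le_card (hle i)).trans Finset.card_le_four
  · rw [Finset.card_le_one_iff]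
    intro a b ha hb
    apply Fin.ext
    rw [hnb] at ha hb
    simp only at ha hb
    omega
  · have h1 : (Finset.univ.filter fun i => (nb (Cfsg.Agent.Nodes.TypeD.M n) i).card ≤ 1) ⊆
        ({⟨0, by omega⟩, ⟨n, by omega⟩, ⟨n + 1, by omega⟩} : Finset (Fin (n + 2))) := by
      intro i hi
      rw [Finset.mem_filter] at hi
      by_contra hcon
      simp only [Finset.mem_insert, Finset.mem_singleton, not_or] at hcon
      have h2 : (i : ℕ) ≠ 0 := fun h => hcon.1 (Fin.ext h)
      have h3 : (i : ℕ) ≠ n := fun h => hcon.2.1 (Fin.ext h)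
      have h3' : (i : ℕ) ≠ n + 1 := fun h => hcon.2.2 (Fin.ext h)
      have h4 := i.2
      have h7 : (⟨(i : ℕ) + 1, by omega⟩ : Fin (n + 2)) ∈ nb (Cfsg.Agent.Nodes.TypeD.M n) i := by
        rw [hnb]
        exact Or.inl (Or.inl ⟨show (i : ℕ) + 1 < n + 1 by omega, rfl⟩)
      have h8 : (⟨(i : ℕ) - 1, by omega⟩ : Fin (n + 2)) ∈ nb (Cfsg.Agent.Nodes.TypeD.M n) i := by
        rw [hnb]
        exact Or.inr (Or.inl ⟨show (i : ℕ) < n + 1 by omega, show (i : ℕ) - 1 + 1 = i by omega⟩)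
      have h5 : (⟨(i : ℕ) + 1, by omega⟩ : Fin (n + 2)) = ⟨(i : ℕ) - 1, by omega⟩ :=
        Finset.card_le_one_iff.1 hi.2 h7 h8
      have h6 := congrArg Fin.val h5
      simp only at h6
      omega
    exact (Finset.card_le_card h1).trans (Finset.card_le_three.trans (by norm_num))

/-! ### types `E` -/

theorem rigid_E6 (hconn : Conn CoxeterMatrix.E₆) : Rigid CoxeterMatrix.E₆ :=
  rigid_of_deg _ hconn (by decide +kernel) 1 (by decide +kernel) (by decide +kernel)

theorem rigid_E7 (hconn : Conn CoxeterMatrix.E₇) : Rigid CoxeterMatrix.E₇ :=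
  rigid_of_deg _ hconn (by decide +kernel) 1 (by decide +kernel) (by decide +kernel)

theorem rigid_E8 (hconn : Conn CoxeterMatrix.E₈) : Rigid CoxeterMatrix.E₈ :=
  rigid_of_deg _ hconn (by decide +kernel) 1 (by decide +kernel) (by decide +kernel)

/-! ### groups with a root group datum -/

section

variable {W Y : Type*} [Group W] [Group Y] {M : CoxeterMatrix I}
  {cs : CoxeterSystem M W} {C : I → I → ℤ} {h : IsCartan M C} {p : ℕ} {T : Subgroup Y} {n : I → Y}
  {X : (I → ℤ) → Subgroup Y}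

/-- **Automorphisms of order prime to `6` fixing the frame fix the nodes.** -/
theorem diag_one [Finite W] (R : RGD cs h p T n X) (hG : GG cs h T X = ⊤) {a : MulAut Y}
    (hU : Fix a (RGD.Sup X (RGD.Pos cs h))) (hUN : Fix a (UN cs h X)) {k : ℕ} (hk6 : Nat.Coprime k 6) (hk : a ^ k = 1)
    (hM : Rigid M) : Diag T X a 1 := by
  obtain ⟨σ, hσ⟩ := exists_diag R hG hU hUN
  have h1 := hσ.pow k
  rw [hk] at h1
  have h2 : σ ^ k = 1 := by
    ext i
    have h3 : X (sr ((σ ^ k) i)) = X (sr i) := by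
      ext x
      exact h1.pos i x
    have h4 := X_injective R (isRoot_sr cs h _) (isRoot_sr cs h _) h3
    by_contra hne
    have hne' : (σ ^ k) i ≠ i := hne
    have h5 := congrFun h4 ((σ ^ k) i)
    rw [sr_self, sr_ne hne'] at h5
    exact one_ne_zero h5
  rw [hM σ (hσ.matrix R) k hk6 h2] at hσ
  exact hσ

end

end Cfsg.Agent.H485.Nodes
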