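import Mathlib
import Cfsg.Agent.H566.Reduce
import Cfsg.Agent.H485.Adm

/-!
# Reduction to simple groups: 2-subgroups of the coprime fixed points cyclic or of exponent two (helper485)

* `CE H` : every 2-subgroup of `H` is cyclic or of exponent two; hereditary for subgroups and quotients;
* `Factor Pr G` : `G` has a composition factor with the property `Pr`;
* `factor_of_simples` : if the non-abelian simple groups with `Adm` have the property `Pr`, then so has a
  composition factor of every non-solvable finite group `G` with a coprime group `A` of automorphisms, `CE C_G(A)`.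
-/

set_option autoImplicit false
set_option linter.unusedSectionVars false

namespace Cfsg.Agent.H485.Red

open Subgroup Cfsg.Agent.H566 Cfsg.Agent.H485.Adm
open Cfsg.Agent.H485.Weyl (AbTwo)

universe u

/-- Every 2-subgroup is cyclic or of exponent two. -/
def CE (H : Type*) [Group H] : Prop :=
  ∀ Q : Subgroup H, IsPGroup 2 Q → IsCyclic Q ∨ ∀ x ∈ Q, x * x = 1

theorem CE.of_injective {H L : Type*} [Group H] [Group L] (h : CE L) (f : H →* L) (hf : Function.Injective f) :
    CE H := by
  intro Q hQ
  have e : Q ≃* Q.map f := Q.equivMapOfInjective f hf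
  rcases h (Q.map f) (hQ.map f) with h1 | h1
  · left
    exact isCyclic_of_injective e.toMonoidHom e.injective
  · right
    intro x hx
    apply hf
    rw [map_mul, map_one]
    exact h1 _ (Subgroup.mem_map_of_mem f hx)

theorem CE.of_surjective {H L : Type*} [Group H] [Group L] [Finite H] (h : CE H) (f : H →* L)
    (hf : Function.Surjective f) : CE L := by
  intro D hD
  have h2f : Fact (Nat.Prime 2) := ⟨Nat.prime_two⟩
  -- the preimage of `D`
  let P : Subgroup H := D.comap f
  let g : ↥P →* ↥D := f.subgroupComap D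
  have hg : Function.Surjective g := by
    rintro ⟨w, hw⟩
    obtain ⟨a, ha⟩ := hf w
    exact ⟨⟨a, by rw [Subgroup.mem_comap, ha]; exact hw⟩, Subtype.ext ha⟩
  obtain ⟨Q⟩ : Nonempty (Sylow 2 ↥P) := inferInstance
  have : Finite ↥D := Finite.of_surjective g hg
  have htop : (Q : Subgroup ↥P).map g = ⊤ := by
    have h1 : ((Q.mapSurjective hg : Sylow 2 ↥D) : Subgroup ↥D) = ⊤ := by
      have h2 := (Q.mapSurjective hg).3 (Q := ⊤) ?_ le_top
      · exact h2.symm
      · exact hD.to_subgroup ⊤
    exact h1
  have key : ∀ w ∈ D, ∃ q : ↥P, q ∈ (Q : Subgroup ↥P) ∧ f q = w := by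
    intro w hw
    have h1 : (⟨w, hw⟩ : ↥D) ∈ (Q : Subgroup ↥P).map g := by rw [htop]; exact Subgroup.mem_top _
    obtain ⟨q, hq, hqw⟩ := h1
    exact ⟨q, hq, congrArg Subtype.val hqw⟩
  rcases h ((Q : Subgroup ↥P).map P.subtype) (Q.isPGroup'.map _) with h1 | h1
  · left
    let k : ↥((Q : Subgroup ↥P).map P.subtype) →* ↥D :=
      (f.comp ((Q : Subgroup ↥P).map P.subtype).subtype).codRestrict D (by
        rintro ⟨_, ⟨q, hq, rfl⟩⟩
        exact q.2)
    refine isCyclic_of_surjective k ?_
    rintro ⟨w, hw⟩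
    obtain ⟨q, hq, hqw⟩ := key w hw
    exact ⟨⟨q, ⟨q, hq, rfl⟩⟩, Subtype.ext hqw⟩
  · right
    intro w hw
    obtain ⟨q, hq, rfl⟩ := key w hw
    have h2 : (q : H) * q = 1 := h1 _ ⟨q, hq, rfl⟩
    rw [← map_mul, h2, map_one]

theorem CE.comm {H : Type*} [Group H] (h : CE H) (Q : Subgroup H) (hQ : IsPGroup 2 Q) {a b : H} (ha : a ∈ Q)
    (hb : b ∈ Q) : a * b = b * a := by
  rcases h Q hQ with h1 | h1
  · let _ : CommGroup ↥Q := IsCyclic.commGroup
    exact congrArg Subtype.val (mul_comm (⟨a, ha⟩ : ↥Q) ⟨b, hb⟩)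
  · have h2 := h1 _ (mul_mem ha hb)
    calc a * b = (a * b)⁻¹ := (inv_eq_of_mul_eq_one_right h2).symm
      _ = b⁻¹ * a⁻¹ := mul_inv_rev _ _
      _ = b * a := by rw [inv_eq_of_mul_eq_one_right (h1 a ha), inv_eq_of_mul_eq_one_right (h1 b hb)]

theorem CE.abTwo {K : Type*} [Group K] {C : Subgroup K} (h : CE ↥C) : AbTwo C := by
  intro Q hQ hp a ha b hb
  have h1 := h.comm (Q.subgroupOf C) (hp.comap_of_injective C.subtype C.subtype_injective)
    (a := ⟨a, hQ ha⟩) (b := ⟨b, hQ hb⟩) ha hb
  exact congrArg Subtype.val h1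

/-- A composition factor with the property `Pr`. -/
def Factor (Pr : ∀ (L : Type u) [Group L], Prop) (G : Type u) [Group G] : Prop :=
  ∃ (H : Subgroup G) (_ : H.IsSubnormal) (L : Type u) (_ : Group L) (f : ↥H →* L), Function.Surjective f ∧
    IsSimpleGroup L ∧ Pr L

variable {Pr : ∀ (L : Type u) [Group L], Prop}

theorem Factor.of_quotient {G : Type u} [Group G] {N : Subgroup G} [N.Normal] (h : Factor Pr (G ⧸ N)) :
    Factor Pr G := by
  obtain ⟨H, hH, L, iL, f, hf, hs, hP⟩ := h
  refine ⟨H.comap (QuotientGroup.mk' N), hH.comap _, L, iL, f.comp ((QuotientGroup.mk' N).subgroupComap H), ?_, hs, hP⟩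
  refine hf.comp ?_
  rintro ⟨w, hw⟩
  obtain ⟨a, ha⟩ := QuotientGroup.mk'_surjective N w
  exact ⟨⟨a, by rw [Subgroup.mem_comap, ha]; exact hw⟩, Subtype.ext ha⟩

theorem Factor.of_normal {G : Type u} [Group G] {N : Subgroup G} (hN : N.Normal) (h : Factor Pr ↥N) :
    Factor Pr G := by
  obtain ⟨H, hH, L, iL, f, hf, hs, hP⟩ := h
  have e : ↥H ≃* ↥(H.map N.subtype) := H.equivMapOfInjective _ N.subtype_injective
  exact ⟨H.map N.subtype, hH.trans' hN.isSubnormal, L, iL, f.comp e.symm.toMonoidHom, hf.comp e.symm.surjective, hs, hP⟩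

theorem Factor.of_simple {G : Type u} [Group G] [hs : IsSimpleGroup G] (h : Pr G) : Factor Pr G :=
  ⟨⊤, Subgroup.IsSubnormal.top, G, inferInstance, (⊤ : Subgroup G).subtype,
    fun x => ⟨⟨x, Subgroup.mem_top x⟩, rfl⟩, hs, h⟩

/-- **Reduction to simple groups.** -/
theorem factor_of_simples (hS : ∀ (S : Type u) [Group S] [Finite S] [IsSimpleGroup S],
    (¬ IsMulCommutative S) → Adm.Adm S → Pr S) :
    ∀ (G : Type u) [Group G] [Finite G], ¬ Group.IsSolvable G → ∀ A : Subgroup (MulAut G),
      (Nat.card A).Coprime (Nat.card G) → Group.IsSolvable A → CE ↥(Fx A) → Factor Pr G := by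
  intro G _ _ hns
  induction hn : Nat.card G using Nat.strong_induction_on generalizing G with
  | _ n ih =>
    subst hn
    intro A hcop hA hC
    by_cases hmin : ∀ N : Subgroup G, N.Normal → Stab A N → N = ⊥ ∨ N = ⊤
    · obtain ⟨T, hT⟩ := exists_nsim (fun h => hns (Group.isSolvable_of_comm h)) hmin
      have hTs := hT.2.1
      have hTn : T.Normal := hT.1
      refine Factor.of_normal hTn (Factor.of_simple (hS ↥T (fun h => hT.2.2 fun a ha b hb => ?_)
        ⟨indT A T, ?_, solv_indT hA T, CE.abTwo ?_⟩))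
      · exact congrArg Subtype.val (isMulCommutative_iff.1 h ⟨a, ha⟩ ⟨b, hb⟩)
      · exact (hcop.coprime_dvd_left (card_indT T)).coprime_dvd_right (Subgroup.card_subgroup_dvd_card T)
      · let _ : Fintype (↥A ⧸ stT A T) := Fintype.ofFinite _
        refine CE.of_injective hC ((dg (A := A) hT).codRestrict (Fx A) (dg_mem hT)) ?_
        intro x y h
        exact dg_injective hT (congrArg Subtype.val h)
    · push Not at hmin
      obtain ⟨N, hN, hst, hb, ht⟩ := hmin
      have hcN : (Nat.card A).Coprime (Nat.card N) := hcop.coprime_dvd_right (Subgroup.card_subgroup_dvd_card N)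
      by_cases hNs : Group.IsSolvable N
      · have hq : ¬ Group.IsSolvable (G ⧸ N) := fun h => hns ((Group.isSolvable_iff_subgroup_quotient N).2 ⟨hNs, h⟩)
        have h1 : Nat.card (G ⧸ N) < Nat.card G := by
          have h2 : 1 < Nat.card N := by
            rw [Subgroup.one_lt_card_iff_ne_bot]; exact hb
          have h3 := Subgroup.card_eq_card_quotient_mul_card_subgroup N
          have h4 : 0 < Nat.card (G ⧸ N) := Nat.card_pos
          nlinarith
        refine Factor.of_quotient (ih _ h1 (G ⧸ N) hq rfl (quo hst).range ?_ ?_ ?_)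
        · exact (hcop.coprime_dvd_left (Subgroup.card_range_dvd _)).coprime_dvd_right
            (Subgroup.card_quotient_dvd_card N)
        · exact Group.isSolvable_of_surjective (f := (quo hst).rangeRestrict) (quo hst).rangeRestrict_surjective
        · let f : Fx A →* Fx (quo hst).range :=
            ((QuotientGroup.mk' N).comp (Fx A).subtype).codRestrict (Fx (quo hst).range) (by
              rintro ⟨g, hg⟩ _ ⟨a, rfl⟩
              show quo hst a (QuotientGroup.mk g) = QuotientGroup.mk g
              rw [quo_mk, hg a.1 a.2])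
          refine CE.of_surjective hC f ?_
          rintro ⟨x, hx⟩
          obtain ⟨g, hg⟩ := exists_lift hst hcN (Or.inl hA) x hx
          exact ⟨g, Subtype.ext hg⟩
      · have h1 : Nat.card N < Nat.card G :=
          lt_of_le_of_ne N.card_le_card_group fun h => ht (Subgroup.eq_top_of_card_eq N h)
        refine Factor.of_normal hN (ih _ h1 N hNs rfl (rest hst).range ?_ ?_ ?_)
        · exact hcN.coprime_dvd_left (Subgroup.card_range_dvd _)
        · exact Group.isSolvable_of_surjective (f := (rest hst).rangeRestrict) (rest hst).rangeRestrict_surjective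
        · refine CE.of_injective hC ((N.subtype.comp (Fx (rest hst).range).subtype).codRestrict (Fx A) ?_) ?_
          · rintro ⟨x, hx⟩ α hα
            have h1 := hx _ ⟨⟨α, hα⟩, rfl⟩
            exact congrArg Subtype.val h1
          · intro x y hxy
            exact Subtype.ext (Subtype.ext (show (x.1 : G) = y.1 from congrArg (fun z : Fx A => (z : G)) hxy))

end Cfsg.Agent.H485.Red
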