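import Cfsg.Agent.H485.LieCase
import Cfsg.Agent.H566.SporAlt

/-!
# The simple groups with a coprime group of automorphisms whose fixed points have abelian 2-subgroups (helper485)

`inList_of_known` : a known non-abelian simple group with `Adm` is in the list of S3944.
-/

set_option autoImplicit false
set_option linter.unusedSectionVars false

namespace Cfsg.Agent.H485.SimpleCase

open Cfsg Cfsg.Agent.H485.Frame Cfsg.Agent.H485.Weyl Cfsg.Agent.H485.Adm Cfsg.Agent.H485.LieCase
open Cfsg.Agent.BpSpor.Inn (OddInn)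

theorem inList_of_oddInn {K : Type*} [Group K] [Finite K] [IsSimpleGroup K] (hna : ¬ IsMulCommutative K)
    (h : OddInn K) (hA : Adm.Adm K) : InList K := by
  have h2f : Fact (Nat.Prime 2) := ⟨Nat.prime_two⟩
  obtain ⟨A, hcop, hs, hC⟩ := hA
  have hA := H566.eq_bot_of_oddInn h (two_dvd hna) hcop
  obtain ⟨S⟩ : Nonempty (Sylow 2 K) := inferInstance
  refine inList_of_abelian hna S (isMulCommutative_iff.2 fun a b => Subtype.ext ?_)
  refine hC (S : Subgroup K) ?_ S.isPGroup' _ a.2 _ b.2
  intro x _ α hα
  rw [hA] at hα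
  rw [Subgroup.mem_bot.1 hα]
  rfl

/-- **The known simple groups.** -/
theorem inList_of_known {K : Type*} [Group K] [Finite K] [IsSimpleGroup K] (hna : ¬ IsMulCommutative K)
    (h : IsKnownSimple' K) (hA : Adm.Adm K) : InList K := by
  rcases Cfsg.Agent.PreUniq.known_cases h with h | h | ⟨r, hr, h⟩ | h | h
  · exfalso
    have hf : Fact (Nat.card K).Prime := ⟨h⟩
    have hc : IsCyclic K := isCyclic_of_prime_card (p := Nat.card K) rfl
    let _ : CommGroup K := IsCyclic.commGroup
    exact hna (isMulCommutative_iff.2 fun a b => mul_comm a b)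
  · obtain ⟨n, hn, ⟨e⟩⟩ := h
    rcases Nat.lt_or_ge n 7 with h7 | h7
    · have hn' : n = 5 ∨ n = 6 := by omega
      rcases hn' with rfl | rfl
      · let i1 : Fintype (GaloisField 2 2) := Fintype.ofFinite _
        have hc : Fintype.card (GaloisField 2 2) = 4 := by
          rw [← Nat.card_eq_fintype_card, GaloisField.card 2 2 (by norm_num)]; norm_num
        obtain ⟨f⟩ := Cfsg.Agent.S0252.result hc
        exact Or.inl ⟨GaloisField 2 2, inferInstance, i1, Or.inl ⟨2, le_rfl, by rw [hc]; norm_num⟩, ⟨e.trans f.symm⟩⟩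
      · let i1 : Fintype (GaloisField 3 2) := Fintype.ofFinite _
        have hc : Fintype.card (GaloisField 3 2) = 9 := by
          rw [← Nat.card_eq_fintype_card, GaloisField.card 3 2 (by norm_num)]; norm_num
        obtain ⟨f⟩ := Cfsg.Agent.S0254.result hc
        exact Or.inl ⟨GaloisField 3 2, inferInstance, i1, Or.inr ⟨3, 2, Nat.prime_three.isPrimePow, Or.inl rfl,
          by norm_num, by rw [hc]; norm_num, by rw [hc]; norm_num⟩, ⟨e.trans f.symm⟩⟩
    · refine inList_of_oddInn hna ?_ hA
      exact BpSpor.Inn.OddInn.congr e fun p hp hp2 => Cfsg.Agent.CpAut.autInner_alt h7 hp hp2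
  · exact inList_of_lie hna hr h hA
  · exact inList_of_oddInn hna (Cfsg.Agent.BpSpor.Inn.tits h) hA
  · exact inList_of_oddInn hna (H566.oddInn_sporadic h) hA

end Cfsg.Agent.H485.SimpleCase
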