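import Cfsg.Agent.H485.Weyl
import Cfsg.Agent.H532.CopAct
import Cfsg.Agent.KFacts.RgdSyl
import Cfsg.Agent.Nodes.PosPair
import Cfsg.Agent.KFacts.RgdVJ

/-!
# Coprime groups of automorphisms in characteristic 2: fixed root elements do not commute

`R : RGD cs h p T n X`, `A` a solvable group of automorphisms of order prime to `|Y|` fixing the frame and the nodes.

* `max_X` : `X α_i` is a maximal `p`-subgroup of `L_i`;
* `exists_fix_X` (`p = 2`) : some nontrivial element of `X α_i` is fixed by `A`;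
* `mu_unique` : the representative `a u b` of `s_i`, `u ∈ X (-α_i)`, `a, b ∈ X α_i`, is unique;
* `false_of_edge` (`p = 2`): if the diagram has an edge, the 2-subgroups of `fx A` are not all abelian.
-/

set_option autoImplicit false
set_option linter.unusedSectionVars false

open scoped Pointwise

namespace Cfsg.Agent.H485.Two

open CoxeterSystem Cfsg.Agent.ChevalleyStructure.CoxeterGeom Cfsg.Agent.Tits.Roots Cfsg.Agent.Tits.Core
  Cfsg.Agent.Nodes.Reps Cfsg.Agent.Nodes.BNOf Cfsg.Agent.Nodes.StabComb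
  Cfsg.Agent.Nodes.Bruhat Cfsg.Agent.Nodes.OppDec Cfsg.Agent.Nodes.LeviDec Cfsg.Agent.Nodes.NormalForm
  Cfsg.Agent.Nodes.PosPair
  Cfsg.Agent.KFacts.RgdAut Cfsg.Agent.KFacts.RgdDiag Cfsg.Agent.H485.Frame Cfsg.Agent.H485.Weyl

/-! ### Coprime action on an invariant subgroup -/

/-- The action of a group of automorphisms on an invariant subgroup. -/
@[reducible] def resAct {Y : Type*} [Group Y] (A : Subgroup (MulAut Y)) (L : Subgroup Y)
    (hL : ∀ a ∈ A, ∀ x ∈ L, a x ∈ L) : MulDistribMulAction ↥A ↥L where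
  smul a x := ⟨(a : MulAut Y) x, hL a a.2 x x.2⟩
  one_smul _ := rfl
  mul_smul _ _ _ := rfl
  smul_mul _ _ _ := Subtype.ext (map_mul _ _ _)
  smul_one _ := Subtype.ext (map_one _)

/-- A fixed `p`-element of an invariant subgroup is conjugate, by a fixed element, into an invariant maximal
`p`-subgroup. -/
theorem exists_conj_mem {Y : Type*} [Group Y] [Finite Y] {A : Subgroup (MulAut Y)}
    (hcop : (Nat.card A).Coprime (Nat.card Y)) (hs : Group.IsSolvable A) {p : ℕ} [Fact p.Prime] {L Q : Subgroup Y}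
    (hL : ∀ a ∈ A, ∀ x ∈ L, a x ∈ L) (hQA : ∀ a ∈ A, ∀ x ∈ Q, a x ∈ Q) (hQL : Q ≤ L) (hQ : IsPGroup p Q)
    (hmax : ∀ Q' ≤ L, IsPGroup p Q' → Q ≤ Q' → Q' = Q) {g : Y} (hgL : g ∈ L) (hgA : g ∈ fx A)
    (hg : ∃ k : ℕ, g ^ p ^ k = 1) : ∃ c ∈ fx A, c ∈ L ∧ c * g * c⁻¹ ∈ Q := by
  classical
  have : Finite (MulAut Y) := inferInstance
  let act : MulDistribMulAction ↥A ↥L := resAct A L hL
  have hcop' : (Nat.card A).Coprime (Nat.card L) := hcop.coprime_dvd_right (Subgroup.card_subgroup_dvd_card L)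
  have hsm : ∀ (a : ↥A) (x : ↥L), ((a • x : ↥L) : Y) = (a : MulAut Y) x := fun _ _ => rfl
  -- the Sylow subgroup `Q`
  have hQ' : IsPGroup p ↥(Q.subgroupOf L) := hQ.comap_of_injective L.subtype (Subgroup.subtype_injective _)
  obtain ⟨S, hS⟩ := hQ'.exists_le_sylow
  have hSQ : (S : Subgroup ↥L).map L.subtype = Q := by
    refine hmax _ (Subgroup.map_subtype_le _) (S.isPGroup'.map _) ?_
    intro x hx
    exact ⟨⟨x, hQL hx⟩, hS hx, rfl⟩
  have hSA : ∀ a : ↥A, a • S = S := by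
    refine H532.CopAct.smul_sylow_eq S fun a x hx => ?_
    have h1 : ((a • x : ↥L) : Y) ∈ Q := hQA a a.2 x (by rw [← hSQ]; exact ⟨x, hx, rfl⟩)
    rw [← hSQ] at h1
    obtain ⟨y, hy, hyx⟩ := h1
    have h2 : y = a • x := Subtype.ext hyx
    rwa [← h2]
  -- a Sylow subgroup containing `g`
  have hU : IsPGroup p ↥(Subgroup.zpowers (⟨g, hgL⟩ : ↥L)) := by
    obtain ⟨k, hk⟩ := hg
    rintro ⟨x, hx⟩
    obtain ⟨m, rfl⟩ := Subgroup.mem_zpowers_iff.1 hx
    refine ⟨k, Subtype.ext ?_⟩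
    change ((⟨g, hgL⟩ : ↥L) ^ m) ^ p ^ k = 1
    have h1 : (⟨g, hgL⟩ : ↥L) ^ p ^ k = 1 := Subtype.ext hk
    rw [← zpow_natCast, ← zpow_mul, mul_comm, zpow_mul, zpow_natCast, h1, one_zpow]
  have hfix : ∀ a : ↥A, a • (⟨g, hgL⟩ : ↥L) = ⟨g, hgL⟩ := fun a => Subtype.ext (hgA a a.2)
  obtain ⟨P, hP, hgP⟩ := H532.CopAct.exists_inv_sylow_ge (A := ↥A) (G := ↥L) hcop' (Or.inl hs) p
    (Subgroup.zpowers (⟨g, hgL⟩ : ↥L)) hU (by
      intro a x hx
      obtain ⟨m, rfl⟩ := Subgroup.mem_zpowers_iff.1 hx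
      rw [smul_zpow', hfix]
      exact Subgroup.zpow_mem _ (Subgroup.mem_zpowers _) m)
  obtain ⟨c, hc, hcP⟩ := (H532.CopAct.inv_sylow (A := ↥A) (G := ↥L) hcop' (Or.inl hs) p).2 P S hP hSA
  refine ⟨c, fun a ha => congrArg Subtype.val (hc ⟨a, ha⟩), c.2, ?_⟩
  have h1 : c * (⟨g, hgL⟩ : ↥L) * c⁻¹ ∈ (S : Subgroup ↥L) := by
    rw [← hcP]
    have h2 : MulAut.conj c • (⟨g, hgL⟩ : ↥L) ∈ MulAut.conj c • (P : Subgroup ↥L) :=
      Subgroup.smul_mem_pointwise_smul _ _ _ (hgP (Subgroup.mem_zpowers _))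
    exact h2
  rw [← hSQ]
  exact ⟨_, h1, rfl⟩

section

variable {I W Y : Type*} [Fintype I] [DecidableEq I] [Group W] [Group Y] {M : CoxeterMatrix I}
  {cs : CoxeterSystem M W} {C : I → I → ℤ} {h : IsCartan M C} {p : ℕ} {T : Subgroup Y} {n : I → Y}
  {X : (I → ℤ) → Subgroup Y}

theorem mem_RootsJ_singleton [Finite W] {i : I} {x : I → ℤ} :
    x ∈ RootsJ cs h {i} ↔ x = sr i ∨ x = -sr i := by
  constructor
  · rintro ⟨hx, h0⟩
    have h1 : (1 : ℤ) • x = x i • sr i := by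
      rw [one_smul]
      funext k
      rw [Pi.smul_apply, smul_eq_mul]
      by_cases hk : k = i
      · subst hk
        rw [sr_self, mul_one]
      · rw [sr_ne hk, mul_zero, h0 k hk]
    exact eq_or_eq_neg_of_smul cs h hx (isRoot_sr cs h i) one_ne_zero h1
  · rintro (rfl | rfl)
    · exact PosJ_subset {i} (sr_mem_PosJ rfl)
    · exact RootsJ.neg (PosJ_subset {i} (sr_mem_PosJ rfl))

theorem mem_PosJ_singleton [Finite W] {i : I} {x : I → ℤ} : x ∈ PosJ cs h {i} ↔ x = sr i := by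
  constructor
  · intro hx
    rcases mem_RootsJ_singleton.1 (PosJ_subset _ hx) with rfl | rfl
    · rfl
    · exfalso
      have h1 := hx.2.1 i
      rw [Pi.neg_apply, sr_self] at h1
      exact absurd h1 (by norm_num)
  · rintro rfl
    exact sr_mem_PosJ rfl

theorem UJ_singleton [Finite W] (i : I) : UJ cs h X {i} = X (sr i) := by
  apply le_antisymm
  · exact RGD.Sup_le fun x hx => by rw [mem_PosJ_singleton.1 hx]
  · exact RGD.le_Sup (mem_PosJ_singleton.2 rfl)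

theorem LJ_singleton [Finite W] (i : I) : LJ cs h T X {i} = T ⊔ (X (sr i) ⊔ X (-sr i)) := by
  apply le_antisymm
  · refine sup_le le_sup_left (RGD.Sup_le fun x hx => ?_)
    rcases mem_RootsJ_singleton.1 hx with rfl | rfl
    · exact le_sup_left.trans le_sup_right
    · exact le_sup_right.trans le_sup_right
  · refine sup_le T_le_LJ (sup_le ?_ ?_)
    · exact X_le_LJ (mem_RootsJ_singleton.2 (Or.inl rfl))
    · exact X_le_LJ (mem_RootsJ_singleton.2 (Or.inr rfl))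

/-- The Levi subgroup of a node is invariant. -/
theorem LJ_inv [Finite W] {a : MulAut Y} (hD : Diag T X a 1) (i : I) {x : Y} (hx : x ∈ LJ cs h T X {i}) :
    a x ∈ LJ cs h T X {i} := by
  have h1 : LJ cs h T X {i} ≤ (LJ cs h T X {i}).comap a.toMonoidHom := by
    conv_lhs => rw [LJ_singleton]
    refine sup_le (fun t ht => T_le_LJ ((hD.tor t).2 ht)) (sup_le (fun u hu => ?_) (fun u hu => ?_))
    · exact X_le_LJ (mem_RootsJ_singleton.2 (Or.inl rfl)) ((hD.pos i u).2 hu)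
    · exact X_le_LJ (mem_RootsJ_singleton.2 (Or.inr rfl)) ((hD.neg i u).2 hu)
  exact h1 hx

/-- `X α_i` is a maximal `p`-subgroup of `L_i`. -/
theorem max_X [Finite W] [Finite Y] [Fact p.Prime] (R : RGD cs h p T n X) (i : I) (Q : Subgroup Y)
    (hQL : Q ≤ LJ cs h T X {i}) (hQ : IsPGroup p Q) (hXQ : X (sr i) ≤ Q) : Q = X (sr i) := by
  have hV : IsPGroup p (VJ cs h X {i}) := R.isPGroup_of_pos (S := NotJ cs h {i}) fun _ hx => ⟨hx.1, hx.2.1⟩
  have hn : Q ≤ Subgroup.normalizer (VJ cs h X {i} : Set Y) := hQL.trans (LJ_le_normalizer_VJ R {i})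
  have h1 : IsPGroup p ↥(Q ⊔ VJ cs h X {i}) := IsPGroup.to_sup_of_normal_right' hQ hV hn
  have h2 : RGD.Sup X (RGD.Pos cs h) ≤ Q ⊔ VJ cs h X {i} := by
    intro u hu
    obtain ⟨v, hv, w, hw, rfl⟩ := (mem_U_iff R (J := {i})).1 hu
    rw [UJ_singleton] at hv
    exact mul_mem (Subgroup.mem_sup_left (hXQ hv)) (Subgroup.mem_sup_right hw)
  have h3 := eq_U_of_isPGroup R h1 h2
    (sup_le (hQL.trans LJ_le_GG) ((VJ_le_U {i}).trans (RGD.Sup_le fun x hx => X_le_GG hx.1)))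
  refine le_antisymm (fun q hq => ?_) hXQ
  have h4 : q ∈ RGD.Sup X (RGD.Pos cs h) := by rw [← h3]; exact Subgroup.mem_sup_left hq
  obtain ⟨v, hv, w, hw, rfl⟩ := (mem_U_iff R (J := {i})).1 h4
  have hv' : v ∈ LJ cs h T X {i} := BJ_le_LJ (UJ_le_BJ hv)
  have hw' : w ∈ LJ cs h T X {i} := by
    have := mul_mem (inv_mem hv') (hQL hq)
    rwa [inv_mul_cancel_left] at this
  rw [eq_one_of_mem_LJ_of_mem_VJ R hw' hw, mul_one]
  rwa [UJ_singleton] at hv

/-- The representative `a u b` is unique. -/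
theorem mu_unique [Finite W] (R : RGD cs h p T n X) {i : I} {u a b a' b' : Y} (ha : a ∈ X (sr i)) (hb : b ∈ X (sr i))
    (ha' : a' ∈ X (sr i)) (hb' : b' ∈ X (sr i)) (h1 : Rp cs R.nsys (cs.simple i) (a * u * b))
    (h2 : Rp cs R.nsys (cs.simple i) (a' * u * b')) : a = a' ∧ b = b' := by
  have hX : ∀ {x : Y}, x ∈ X (sr i) → x ∈ RGD.B cs h T X := fun hx =>
    RGD.X_le_B (T := T) (isRoot_sr cs h i) (sr_nonneg i) hx
  have ht : (a' * u * b')⁻¹ * (a * u * b) ∈ T := h2.unique h1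
  have h3 : u⁻¹ * (a'⁻¹ * a) * u ∈ RGD.B cs h T X := by
    have h4 : u⁻¹ * (a'⁻¹ * a) * u = b' * ((a' * u * b')⁻¹ * (a * u * b)) * b⁻¹ := by group
    rw [h4]
    exact mul_mem (mul_mem (hX hb') (RGD.T_le_B ht)) (inv_mem (hX hb))
  have h5 : (a * u * b)⁻¹ * (a * (a'⁻¹ * a) * a⁻¹) * ((a * u * b)⁻¹)⁻¹ ∈ RGD.B cs h T X := by
    have h6 : (a * u * b)⁻¹ * (a * (a'⁻¹ * a) * a⁻¹) * ((a * u * b)⁻¹)⁻¹ = b⁻¹ * (u⁻¹ * (a'⁻¹ * a) * u) * b := by group
    rw [h6]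
    exact mul_mem (mul_mem (inv_mem (hX hb)) h3) (hX hb)
  have h7 : Rp cs R.nsys (cs.simple i) (a * u * b)⁻¹ := by
    have := h1.inv
    rwa [cs.inv_simple] at this
  have h8 := eq_one_of_conj_mem_B R (i := i) (mul_mem (mul_mem ha (mul_mem (inv_mem ha') ha)) (inv_mem ha)) h7 h5
  have h9 : a = a' := by
    have h10 : a'⁻¹ * a = 1 := by
      have h11 : a'⁻¹ * a = a⁻¹ * (a * (a'⁻¹ * a) * a⁻¹) * a := by group
      rw [h11, h8]; group
    exact (inv_mul_eq_one.1 h10).symm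
  subst h9
  refine ⟨rfl, ?_⟩
  have h12 : b'⁻¹ * b ∈ X (sr i) ⊓ T := by
    refine ⟨(X (sr i)).mul_mem ((X (sr i)).inv_mem hb') hb, ?_⟩
    have h13 : (a * u * b')⁻¹ * (a * u * b) = b'⁻¹ * b := by group
    rwa [h13] at ht
  rw [X_inf_T R (isRoot_sr cs h i), Subgroup.mem_bot] at h12
  exact (inv_mul_eq_one.1 h12).symm

theorem rp_of_diag [Finite W] (R : RGD cs h p T n X) {a : MulAut Y} (hD : Diag T X a 1) {w : W} {g : Y}
    (hg : Rp cs R.nsys w g) : Rp cs R.nsys w (a g) := by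
  have hmat : ∀ i j, M ((1 : Equiv.Perm I) i) ((1 : Equiv.Perm I) j) = M i j := fun _ _ => rfl
  have h1 := hD.rp' (R := R) hmat hg
  have h2 : hat cs (1 : Equiv.Perm I) hmat = MonoidHom.id W := by
    apply cs.ext_simple
    intro i
    rw [hat_simple]; rfl
  rwa [h2] at h1

/-- A fixed representative of 2-power order. -/
theorem exists_fixed_rp_two [Finite W] [Finite Y] (R : RGD cs h p T n X) {A : Subgroup (MulAut Y)}
    (hrp : ∀ w : W, ∃ g ∈ fx A, Rp cs R.nsys w g) {w : W} (hw : w * w = 1) :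
    ∃ g ∈ fx A, Rp cs R.nsys w g ∧ ∃ k : ℕ, g ^ 2 ^ k = 1 := by
  obtain ⟨g, hg, hr⟩ := hrp w
  obtain ⟨k, m, hm, hkm⟩ := Nat.exists_eq_pow_mul_and_not_dvd (orderOf_pos g).ne' 2 (by norm_num)
  refine ⟨g ^ m, (fx A).pow_mem hg m, ?_, k, ?_⟩
  · have h1 : ∀ r : ℕ, Rp cs R.nsys (w ^ r) (g ^ r) := by
      intro r
      induction r with
      | zero => rw [pow_zero, pow_zero]; exact rp_one
      | succ r ih => rw [pow_succ, pow_succ]; exact ih.mul hr
    have h2 : w ^ m = w := by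
      obtain ⟨r, hr⟩ : ∃ r, m = 2 * r + 1 := ⟨m / 2, by omega⟩
      rw [hr, pow_succ, pow_mul, pow_two, hw, one_pow, one_mul]
    have h3 := h1 m
    rwa [h2] at h3
  · rw [← pow_mul, mul_comm, ← hkm]
    exact pow_orderOf_eq_one g

/-- **Fixed elements of the root groups in characteristic 2.** -/
theorem exists_fix_X [Finite W] [Finite Y] (R : RGD cs h 2 T n X) {A : Subgroup (MulAut Y)}
    (hcop : (Nat.card A).Coprime (Nat.card Y)) (hs : Group.IsSolvable A) (hD : ∀ a ∈ A, Diag T X a 1)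
    (hrp : ∀ w : W, ∃ g ∈ fx A, Rp cs R.nsys w g) (i : I) :
    (∃ x ∈ fx A, x ∈ X (sr i) ∧ x ≠ 1) ∧ ∃ x ∈ fx A, x ∈ X (-sr i) ∧ x ≠ 1 := by
  have : Fact (Nat.Prime 2) := ⟨Nat.prime_two⟩
  obtain ⟨g, hg, hr, hk⟩ := exists_fixed_rp_two R hrp (cs.simple_mul_simple_self i)
  have hgL : g ∈ LJ cs h T X {i} := by
    refine rp_mem_LJ R ?_ hr
    exact Subgroup.subset_closure ⟨i, rfl, rfl⟩
  obtain ⟨c, hc, -, hcQ⟩ := exists_conj_mem (p := 2) hcop hs (L := LJ cs h T X {i}) (Q := X (sr i))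
    (fun a ha x hx => LJ_inv (hD a ha) i hx) (fun a ha x hx => ((hD a ha).pos i x).2 hx)
    (X_le_LJ (mem_RootsJ_singleton.2 (Or.inl rfl))) (R.pgrp i) (fun Q' h1 h2 h3 => max_X R i Q' h1 h2 h3) hgL hg hk
  have hne : c * g * c⁻¹ ≠ 1 := by
    intro h1
    have h2 : g = 1 := by
      have : g = c⁻¹ * (c * g * c⁻¹) * c := by group
      rw [this, h1]; group
    rw [h2] at hr
    have h3 := rp_inj R hr rp_one
    have h4 := cs.length_simple i
    rw [h3, cs.length_one] at h4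
    omega
  have hfix : c * g * c⁻¹ ∈ fx A := mul_mem (mul_mem hc hg) (inv_mem hc)
  refine ⟨⟨_, hfix, hcQ, hne⟩, g * (c * g * c⁻¹) * g⁻¹, mul_mem (mul_mem hg hfix) (inv_mem hg), ?_, ?_⟩
  · have := R.conj_mem hr (isRoot_sr cs h i) hcQ
    rwa [rep_simple_sr] at this
  · intro h1
    apply hne
    have : c * g * c⁻¹ = g⁻¹ * (g * (c * g * c⁻¹) * g⁻¹) * g := by group
    rw [this, h1]; group

/-- **Characteristic 2: the fixed points have non-abelian 2-subgroups if the diagram has an edge.** -/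
theorem false_of_edge [Finite W] [Finite Y] (R : RGD cs h 2 T n X) {A : Subgroup (MulAut Y)}
    (hcop : (Nat.card A).Coprime (Nat.card Y)) (hs : Group.IsSolvable A)
    (hD : ∀ a ∈ A, Diag T X a 1) (hrp : ∀ w : W, ∃ g ∈ fx A, Rp cs R.nsys w g) (hC : AbTwo (fx A))
    {i j : I} (hij : i ≠ j) (hM : M i j ≠ 2) : False := by
  obtain ⟨-, u, hu, huX, hu1⟩ := exists_fix_X R hcop hs hD hrp i
  obtain ⟨-, y, hy, hyX, hy1⟩ := exists_fix_X R hcop hs hD hrp j
  -- `u` and `y` commute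
  have hUNp : IsPGroup 2 ↥(UN cs h X) := by
    have := (KFacts.RgdOpp.opp R).isPGroup_Upos
    rwa [KFacts.RgdOpp.U_opp] at this
  have hcomm : u * y = y * u := by
    refine hC (fx A ⊓ UN cs h X) inf_le_left (hUNp.to_le inf_le_right) u ⟨hu, ?_⟩ y ⟨hy, ?_⟩
    · exact X_le_UN (isRoot_sr cs h i).neg (neg_nonpos.2 (sr_nonneg i)) huX
    · exact X_le_UN (isRoot_sr cs h j).neg (neg_nonpos.2 (sr_nonneg j)) hyX
  -- the representative
  obtain ⟨a, ha, t, ht, b, hb, e⟩ := R.rk1 i u huX hu1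
  have hm : Rp cs R.nsys (cs.simple i) (a⁻¹ * u * b⁻¹) := by
    have h1 : a⁻¹ * u * b⁻¹ = t * n i := by rw [e]; group
    rw [h1]
    have := (rp_of_mem (cs := cs) (hN := R.nsys) ht).mul (rp_simple cs R.nsys i)
    rwa [one_mul] at this
  have hfix : ∀ α ∈ A, α a⁻¹ = a⁻¹ ∧ α b⁻¹ = b⁻¹ := by
    intro α hα
    have h1 := rp_of_diag R (hD α hα) hm
    rw [map_mul, map_mul, hu α hα] at h1
    exact mu_unique R (((hD α hα).pos i _).2 (inv_mem ha)) (((hD α hα).pos i _).2 (inv_mem hb)) (inv_mem ha)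
      (inv_mem hb) h1 hm
  -- `m` commutes with `y`
  have hca : a⁻¹ * y = y * a⁻¹ := commute_pos_neg R hij (inv_mem ha) hyX
  have hcb : b⁻¹ * y = y * b⁻¹ := commute_pos_neg R hij (inv_mem hb) hyX
  have h1 : (a⁻¹ * u * b⁻¹) * y * (a⁻¹ * u * b⁻¹)⁻¹ = y := by
    rw [mul_inv_eq_iff_eq_mul]
    calc a⁻¹ * u * b⁻¹ * y = a⁻¹ * u * (b⁻¹ * y) := by group
      _ = a⁻¹ * (u * y) * b⁻¹ := by rw [hcb]; group
      _ = (a⁻¹ * y) * u * b⁻¹ := by rw [hcomm]; group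
      _ = y * (a⁻¹ * u * b⁻¹) := by rw [hca]; group
  have h2 := R.conj_mem hm (isRoot_sr cs h j).neg hyX
  rw [h1] at h2
  have h3 : rep cs h (cs.simple i) (-sr j) ≠ -sr j := by
    rw [map_neg]
    intro h4
    have h5 : rep cs h (cs.simple i) (sr j) = sr j := neg_injective h4
    have h6 := congrFun h5 i
    rw [rep_simple_apply_self, KFacts.RgdVJ.pairing_sr0, sr_ne hij] at h6
    have h7 : C i j = 0 := by omega
    rcases h.rel i j hij with h8 | h8 | h8 | h8 <;> omega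
  have h4 : y ∈ X (rep cs h (cs.simple i) (-sr j)) ⊓ X (-sr j) := ⟨h2, hyX⟩
  rw [X_inf_X R ((isRoot_sr cs h j).neg.act _) (isRoot_sr cs h j).neg h3, Subgroup.mem_bot] at h4
  exact hy1 h4

end

end Cfsg.Agent.H485.Two
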